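import Cfsg.Agent.Lib.Blocks.Misc
import Cfsg.Agent.Lib.Blocks.RegularSum
import Cfsg.Agent.Lib.Blocks.SecondMain
import Cfsg.Agent.Lib.Blocks.RegTrExact
import Cfsg.Agent.Lib.Blocks.SubsectionRow
import Cfsg.Agent.Lib.Blocks.KernelBlock
import Cfsg.Agent.Lib.Char.PermChar
import Cfsg.Agent.Lib.Transfer.Basic
import Cfsg.Agent.S0938
import Cfsg.Prelude.Def_CaseTheorems

/-!
Constant difference between degree and value on the principal 2-block: first consequences.
-/

set_option autoImplicit false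
set_option linter.unusedSectionVars false
set_option linter.style.haveILetI false

namespace Cfsg.Agent.ConstDiff

open Cfsg Cfsg.Agent.Char Cfsg.Agent.Blocks
open scoped ComplexConjugate

universe u

variable {G : Type u} [Group G] [Fintype G] {M : Ideal AlgInt} [M.IsPrime]

/-- The non-principal members of the principal block. -/
noncomputable def rest (M : Ideal AlgInt) (G : Type u) [Group G] [Fintype G] :
    Finset (IrrCharacter G) := by
  classical
  exact Finset.univ.filter fun χ => χ ∈ principalBlock M G ∧ χ ≠ principal G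

theorem mem_rest {χ : IrrCharacter G} :
    χ ∈ rest M G ↔ χ ∈ principalBlock M G ∧ (χ : G → ℂ) ≠ fun _ => 1 := by
  classical
  simp only [rest, Finset.mem_filter, Finset.mem_univ, true_and, ne_eq, Subtype.ext_iff]
  rfl

theorem blockPair_split (g h : G) : blockPair (principalBlock M G) g h =
    1 + ∑ χ ∈ rest M G, (χ : G → ℂ) g * conj ((χ : G → ℂ) h) := by
  classical
  unfold blockPair
  rw [← Finset.add_sum_erase _ _ (Finset.mem_filter.2
    ⟨Finset.mem_univ (principal G), principal_mem_principalBlock (M := M) (G := G)⟩)]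
  congr 1
  · simp [principal]
  · refine Finset.sum_congr ?_ fun _ _ => rfl
    ext χ
    simp only [rest, Finset.mem_erase, Finset.mem_filter, Finset.mem_univ, true_and]
    tauto

theorem conj_value {t : G} (ht : orderOf t = 2) (χ : IrrCharacter G) :
    conj ((χ : G → ℂ) t) = (χ : G → ℂ) t := by
  obtain ⟨n, hn, -⟩ := char_involution χ ht
  rw [hn, map_intCast]

theorem conj_one (χ : IrrCharacter G) : conj ((χ : G → ℂ) 1) = (χ : G → ℂ) 1 := by
  rw [irr_one_eq_charDegree χ, map_natCast]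

theorem pPart_self {v : G} (hv : ∃ k, orderOf v = 2 ^ k) : IsPPart 2 v v :=
  ⟨1, mul_one v, Commute.one_right v, hv, by simp⟩

theorem eq_one_of_odd_two {v : G} (hv : ∃ k, orderOf v = 2 ^ k) (h : ¬ 2 ∣ orderOf v) : v = 1 := by
  obtain ⟨k, hk⟩ := hv
  rcases k with _ | k
  · exact orderOf_eq_one_iff.1 (by rw [hk, pow_zero])
  · exact absurd (hk ▸ dvd_pow_self 2 k.succ_ne_zero) h

/-- An element of the kernel of the principal block is trivial when the odd core is. -/
theorem eq_one_of_block_trivial (hM : IsPModular 2 M) (hO : Cfsg.oddCore G = ⊥) {g : G}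
    (h : ∀ χ ∈ rest M G, (χ : G → ℂ) g = (χ : G → ℂ) 1) : g = 1 := by
  haveI : Fact (Nat.Prime 2) := ⟨Nat.prime_two⟩
  obtain ⟨K, hKn, hK, hK2, -, -⟩ := S0938.result 2 M hM _ (isPBlock_principalBlock M G) _
    (principal_mem_principalBlock (M := M) (G := G))
  have hle : K ≤ Cfsg.oddCore G := Cfsg.Agent.PBasic.le_pPrimeCore hKn
    ((Nat.Prime.coprime_iff_not_dvd Nat.prime_two).2 hK2).symm
  rw [hO] at hle
  refine Subgroup.mem_bot.1 (hle ((Set.ext_iff.1 hK g).2 fun χ hχ => ?_))
  by_cases e : (χ : G → ℂ) = fun _ => 1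
  · simp [e]
  · exact h χ (mem_rest.2 ⟨hχ, e⟩)

/-- The situation after the first step: a constant difference at an element whose 2-part is an
involution, all 2-elements are involutions conjugate to it. -/
structure Core (M : Ideal AlgInt) (u t : G) (k : ℂ) : Prop where
  core : Cfsg.oddCore G = ⊥
  u_ne : u ≠ 1
  invol : orderOf t = 2
  part : IsPPart 2 u t
  sq : ∀ v : G, (∃ j, orderOf v = 2 ^ j) → v * v = 1
  conj_invol : ∀ v : G, orderOf v = 2 → IsConj t v
  diff : ∀ χ ∈ rest M G, (χ : G → ℂ) 1 - (χ : G → ℂ) u = k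
  odd_rho : ¬ 2 ∣ ∑ χ ∈ rest M G, charDegree (χ : G → ℂ)

theorem exists_core (hM : IsPModular 2 M) (hO : Cfsg.oddCore G = ⊥) {u : G} (hu : u ≠ 1) {k : ℂ}
    (hk : ∀ χ ∈ rest M G, (χ : G → ℂ) 1 - (χ : G → ℂ) u = k) : ∃ t, Core M u t k := by
  classical
  haveI : Fact (Nat.Prime 2) := ⟨Nat.prime_two⟩
  have hk0 : k ≠ 0 := fun h0 => hu (eq_one_of_block_trivial hM hO fun χ hχ =>
    (sub_eq_zero.1 ((hk χ hχ).trans h0)).symm)
  have hev : 2 ∣ Nat.card G := by
    by_contra h
    have hle : (⊤ : Subgroup G) ≤ Cfsg.oddCore G := Cfsg.Agent.PBasic.le_pPrimeCore inferInstance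
      (by rw [Subgroup.card_top]; exact ((Nat.Prime.coprime_iff_not_dvd Nat.prime_two).2 h).symm)
    rw [hO] at hle
    exact hu (Subgroup.mem_bot.1 (hle (Subgroup.mem_top u)))
  obtain ⟨s, hs⟩ := exists_prime_orderOf_dvd_card' (G := G) 2 hev
  have hB := isPBlock_principalBlock M G
  have hrho : ¬ 2 ∣ ∑ χ ∈ rest M G, charDegree (χ : G → ℂ) := by
    choose n hn hnd using fun χ : IrrCharacter G => char_involution χ hs
    have h0 : blockPair (principalBlock M G) 1 s = 0 :=
      blockPair_regular_singular hM hB (by simp) (by rw [hs])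
    rw [blockPair_split] at h0
    simp only [irr_one_eq_charDegree, hn, map_intCast] at h0
    have h1 : (1 : ℤ) + ∑ χ ∈ rest M G, (charDegree (χ : G → ℂ) : ℤ) * n χ = 0 := by exact_mod_cast h0
    intro hd
    have e : (2 : ℤ) ∣ ∑ χ ∈ rest M G, (charDegree (χ : G → ℂ) : ℤ) * n χ -
        ∑ χ ∈ rest M G, (charDegree (χ : G → ℂ) : ℤ) := by
      rw [← Finset.sum_sub_distrib]
      refine Finset.dvd_sum fun χ _ => ?_
      obtain ⟨c, hc⟩ := hnd χ
      rcases Int.even_or_odd (charDegree (χ : G → ℂ) : ℤ) with ⟨a, ha⟩ | ⟨a, ha⟩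
      · exact ⟨a * (n χ - 1), by rw [ha]; ring⟩
      · exact ⟨(2 * a + 1) * (a - c), by
          rw [ha] at hc ⊢
          rw [show n χ = 2 * a + 1 - 2 * c by omega]; ring⟩
    have hd' : (2 : ℤ) ∣ ∑ χ ∈ rest M G, (charDegree (χ : G → ℂ) : ℤ) := by exact_mod_cast hd
    omega
  obtain ⟨t, ht⟩ := exists_isPPart Nat.prime_two u
  -- every non-trivial 2-element is conjugate to `t`
  have hconj : ∀ v : G, (∃ j, orderOf v = 2 ^ j) → v ≠ 1 → IsConj t v := by
    intro v hv hv1
    by_contra hne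
    have hsing : 2 ∣ orderOf v := by
      by_contra h
      exact hv1 (eq_one_of_odd_two hv h)
    have h1 : blockPair (principalBlock M G) 1 v = 0 :=
      blockPair_regular_singular hM hB (by simp) hsing
    have h2 : blockPair (principalBlock M G) u v = 0 :=
      blockPair_eq_zero_of_pPart hM hB ht (pPart_self hv) hne
    rw [blockPair_split] at h1 h2
    have h3 : k * conj (∑ χ ∈ rest M G, (χ : G → ℂ) v) = 0 := by
      rw [map_sum, Finset.mul_sum, ← sub_self (0 : ℂ)]
      conv_rhs => arg 1; rw [← h1]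
      conv_rhs => arg 2; rw [← h2]
      rw [add_sub_add_left_eq_sub, ← Finset.sum_sub_distrib]
      exact Finset.sum_congr rfl fun χ hχ => by rw [← hk χ hχ]; ring
    have h4 : ∑ χ ∈ rest M G, (χ : G → ℂ) v = 0 := by
      have := (mul_eq_zero.1 h3).resolve_left hk0
      simpa using congrArg conj this
    apply hrho
    rw [← natCast_memLocalIdeal_iff hM, Nat.cast_sum]
    have h5 : MemLocalIdeal M (∑ χ ∈ rest M G, ((χ : G → ℂ) v - (χ : G → ℂ) 1)) :=
      memLocalIdeal_sum _ _ fun χ _ => char_sub_one_mem hM (irr_isCharacter χ) hv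
    rw [Finset.sum_sub_distrib, h4, zero_sub] at h5
    have h6 := MemLocalIdeal.neg h5
    rw [neg_neg] at h6
    simpa only [irr_one_eq_charDegree] using h6
  have hts : IsConj t s := hconj s ⟨1, by rw [hs, pow_one]⟩ fun e => by simp [e] at hs
  have ht2 : orderOf t = 2 := by
    obtain ⟨c, rfl⟩ := isConj_iff.1 hts
    rw [← hs, ← MulAut.conj_apply, MulEquiv.orderOf_eq]
  refine ⟨t, hO, hu, ht2, ht, fun v hv => ?_, fun v hv => ?_, hk, hrho⟩
  · by_cases h : v = 1
    · rw [h, one_mul]
    · obtain ⟨c, rfl⟩ := isConj_iff.1 (hconj v hv h)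
      rw [show c * t * c⁻¹ * (c * t * c⁻¹) = c * (t * t) * c⁻¹ by group,
        show t * t = 1 by rw [← pow_two, ← ht2, pow_orderOf_eq_one], mul_one, mul_inv_cancel]
  · exact hconj v ⟨1, by rw [hv, pow_one]⟩ fun e => by simp [e] at hv

end Cfsg.Agent.ConstDiff
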