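import Cfsg.Agent.Lib.ConstDiff.Numbers
import Cfsg.Agent.S0205
import Cfsg.Agent.Lib.Char.CyclicTI.Basic
import Mathlib.GroupTheory.Transfer

/-!
The characters of the principal block: the difference between degree and value at the involution is the
order of the Sylow subgroup, the centraliser of the Sylow subgroup is the Sylow subgroup.
-/

set_option autoImplicit false
set_option linter.unusedSectionVars false
set_option linter.style.haveILetI false

namespace Cfsg.Agent.ConstDiff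

open Cfsg Cfsg.Agent.Char Cfsg.Agent.Blocks
open scoped ComplexConjugate

universe u

variable {G : Type u} [Group G] [Fintype G] {M : Ideal AlgInt} [M.IsPrime]
variable {u t : G} {k : ℂ}

theorem sylow_le_of_odd_index (R : Subgroup G) [R.Normal] (hR : Odd R.index) (P : Sylow 2 G) :
    (P : Subgroup G) ≤ R := by
  haveI : Fact (Nat.Prime 2) := ⟨Nat.prime_two⟩
  intro x hx
  obtain ⟨j, hj⟩ := IsPGroup.iff_orderOf.1 P.isPGroup' ⟨x, hx⟩
  rw [Subgroup.orderOf_mk] at hj
  rw [← QuotientGroup.eq_one_iff, ← orderOf_eq_one_iff]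
  have h1 : orderOf (x : G ⧸ R) ∣ 2 ^ j := hj ▸ orderOf_map_dvd (QuotientGroup.mk' R) x
  have h2 : orderOf (x : G ⧸ R) ∣ R.index := by
    rw [Subgroup.index_eq_card]; exact orderOf_dvd_natCard _
  exact Nat.eq_one_of_dvd_coprimes ((Nat.coprime_two_left.2 hR).pow_left j) h1 h2

/-- A normal subgroup of odd index containing the centraliser of a Sylow subgroup is everything. -/
theorem Core.eq_top (h : Core M u t k) (hM : IsPModular 2 M) (P : Sylow 2 G)
    (hq : 4 ≤ Nat.card (P : Subgroup G)) (R : Subgroup G) [R.Normal] (hodd : Odd R.index)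
    (hC : Subgroup.centralizer ((P : Subgroup G) : Set G) ≤ R) : R = ⊤ := by
  classical
  haveI : Fact (Nat.Prime 2) := ⟨Nat.prime_two⟩
  by_contra hne
  haveI : Nontrivial (G ⧸ R) := by
    rw [← Finite.one_lt_card_iff_nontrivial, ← Subgroup.index_eq_card]
    exact Nat.one_lt_iff_ne_zero_and_ne_one.2 ⟨Subgroup.index_ne_zero_of_finite,
      fun e => hne (Subgroup.index_eq_one.1 e)⟩
  haveI : Group.IsSolvable (G ⧸ R) := S0205.result (by rw [← Subgroup.index_eq_card]; exact hodd)
  obtain ⟨g₁, hg₁⟩ : ∃ g : G ⧸ R, g ∉ commutator (G ⧸ R) := by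
    by_contra hall
    push Not at hall
    exact (Group.IsSolvable.commutator_lt_top_of_nontrivial (G ⧸ R)).ne
      (eq_top_iff.2 fun g _ => hall g)
  haveI : IsMulCommutative (Abelianization (G ⧸ R)) := ⟨⟨fun a b => mul_comm a b⟩⟩
  obtain ⟨f, hf⟩ := Cfsg.Agent.Char.CyclicTI.exists_hom_ne_one (x := Abelianization.of g₁)
    (fun e => hg₁ (by rwa [← Abelianization.ker_of, MonoidHom.mem_ker]))
  set l : G →* ℂˣ := (f.comp Abelianization.of).comp (QuotientGroup.mk' R) with hl
  have hlR : ∀ r ∈ R, l r = 1 := fun r hr => by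
    show f (Abelianization.of ((r : G ⧸ R))) = 1
    rw [(QuotientGroup.eq_one_iff r).2 hr, map_one, map_one]
  set χ : IrrCharacter G := ⟨fun g => (l g : ℂ), isIrrCharacter_linear l⟩ with hχ
  have hne1 : (χ : G → ℂ) ≠ fun _ => 1 := by
    intro e
    obtain ⟨g, rfl⟩ := QuotientGroup.mk_surjective g₁
    exact hf (Units.ext (congrFun e g))
  have h1 : (χ : G → ℂ) 1 = 1 := by simp [hχ]
  have hmem : χ ∈ principalBlock M G := by
    rw [mem_principalBlock_iff]
    intro g
    unfold centralChar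
    rw [h1, div_one, ← mul_one_sub]
    by_cases hd : 2 ∣ (Subgroup.centralizer ({g} : Set G)).index
    · exact MemLocalIdeal.mul_right ((natCast_memLocalIdeal_iff hM _).2 hd)
        ((locRing M).sub_mem (locRing M).one_mem (mem_locRing_of_isIntegral (irr_isIntegral χ g)))
    · -- the class is of odd size, so it meets the centraliser of the Sylow subgroup
      set C := Subgroup.centralizer ({g} : Set G) with hCd
      obtain ⟨S⟩ : Nonempty (Sylow 2 C) := inferInstance
      have hS : IsPGroup 2 ((S : Subgroup C).map C.subtype) := S.isPGroup'.map _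
      obtain ⟨T, hT⟩ := hS.exists_le_sylow
      have hTeq : Nat.card ((S : Subgroup C).map C.subtype) = Nat.card (T : Subgroup G) := by
        rw [Subgroup.card_map_of_injective C.subtype_injective, S.card_eq_multiplicity,
          T.card_eq_multiplicity]
        congr 1
        conv_rhs => rw [← C.card_mul_index]
        rw [Nat.factorization_mul Nat.card_pos.ne' Subgroup.index_ne_zero_of_finite, Finsupp.add_apply,
          Nat.factorization_eq_zero_of_not_dvd hd, add_zero]
      have hTC : (T : Subgroup G) ≤ C := by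
        rw [← Subgroup.eq_of_le_of_card_ge hT hTeq.ge]
        exact Subgroup.map_subtype_le _
      obtain ⟨c, hc⟩ := MulAction.exists_smul_eq G T P
      have hcg : c * g * c⁻¹ ∈ Subgroup.centralizer ((P : Subgroup G) : Set G) := by
        rw [Subgroup.mem_centralizer_iff]
        intro x hx
        rw [SetLike.mem_coe, ← hc, Sylow.coe_subgroup_smul] at hx
        obtain ⟨y, hy, rfl⟩ := hx
        have hyg : y * g = g * y := Subgroup.mem_centralizer_singleton_iff.1 (hTC hy)
        show c * y * c⁻¹ * (c * g * c⁻¹) = c * g * c⁻¹ * (c * y * c⁻¹)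
        calc c * y * c⁻¹ * (c * g * c⁻¹) = c * (y * g) * c⁻¹ := by group
          _ = c * (g * y) * c⁻¹ := by rw [hyg]
          _ = _ := by group
      have hl1 : (χ : G → ℂ) g = 1 := by
        rw [← irr_conj_invariant χ g c]
        exact Units.val_eq_one.2 (hlR _ (hC hcg))
      rw [hl1, sub_self, mul_zero]
      exact memLocalIdeal_zero
  have hd := h.diff χ (mem_rest.2 ⟨hmem, hne1⟩)
  rw [h.const_eq hM P, h1] at hd
  have hn : ‖(χ : G → ℂ) u‖ ≤ (1 : ℕ) :=
    IsIrrCharacter.norm_le χ.2 (by rw [Nat.cast_one]; exact h1) u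
  have h2 : ((Nat.card (P : Subgroup G) : ℕ) : ℝ) ≤ 2 := by
    calc ((Nat.card (P : Subgroup G) : ℕ) : ℝ) = ‖(1 : ℂ) - (χ : G → ℂ) u‖ := by
          rw [hd, Complex.norm_natCast]
      _ ≤ ‖(1 : ℂ)‖ + ‖(χ : G → ℂ) u‖ := norm_sub_le _ _
      _ ≤ 2 := by rw [norm_one]; push_cast at hn; linarith
  have h4 : (4 : ℝ) ≤ (Nat.card (P : Subgroup G) : ℕ) := by exact_mod_cast hq
  linarith

/-- No non-principal member of the block is trivial at the involution. -/
theorem Core.ne_degree (h : Core M u t k) (hM : IsPModular 2 M) (P : Sylow 2 G)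
    (hq : 4 ≤ Nat.card (P : Subgroup G)) {χ : IrrCharacter G} (hχ : χ ∈ rest M G) :
    (χ : G → ℂ) t ≠ (χ : G → ℂ) 1 := by
  classical
  haveI : Fact (Nat.Prime 2) := ⟨Nat.prime_two⟩
  intro htR
  obtain ⟨R, hRn, hR, -, -⟩ := Cfsg.Agent.CharX.exists_ker χ
  haveI := hRn
  have hinv : ∀ v : G, (∃ j, orderOf v = 2 ^ j) → v ∈ R := by
    intro v hv
    by_cases h1 : v = 1
    · rw [h1]; exact R.one_mem
    · obtain ⟨c, rfl⟩ := isConj_iff.1 (h.conj_invol v
        (orderOf_eq_prime (by rw [pow_two]; exact h.sq v hv) h1))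
      exact hRn.conj_mem t ((hR t).2 htR) c
  have hodd : Odd R.index := by
    rw [← Nat.not_even_iff_odd, even_iff_two_dvd]
    intro hd
    refine P.not_dvd_index (hd.trans (Subgroup.index_dvd_of_le fun x hx => hinv x ?_))
    obtain ⟨j, hj⟩ := IsPGroup.iff_orderOf.1 P.isPGroup' ⟨x, hx⟩
    exact ⟨j, by rwa [Subgroup.orderOf_mk] at hj⟩
  obtain ⟨χ', hχ'⟩ := (Cfsg.Agent.CharX.quotEquiv R).surjective ⟨χ, fun x hx => (hR x).1 hx⟩
  have hinfl : χ = Cfsg.Agent.CharX.infl R χ' := (congrArg Subtype.val hχ').symm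
  haveI : Fintype (G ⧸ R) := Fintype.ofFinite _
  set C := Subgroup.centralizer ((P : Subgroup G) : Set G) with hC
  set Cb := C.map (QuotientGroup.mk' R) with hCb
  haveI : Cb.Normal := by
    refine ⟨fun x hx q => ?_⟩
    obtain ⟨c, hc, rfl⟩ := hx
    obtain ⟨g, rfl⟩ := QuotientGroup.mk_surjective q
    obtain ⟨n, hn, r, hr, rfl⟩ := Subgroup.mem_sup_of_normal_right.1
      ((Sylow.normalizer_sup_eq_top' P (sylow_le_of_odd_index R hodd P)).ge (Subgroup.mem_top g))
    refine ⟨n * c * n⁻¹, ?_, ?_⟩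
    · rw [SetLike.mem_coe, Subgroup.mem_centralizer_iff]
      intro y hy
      have hy' : n⁻¹ * y * n ∈ (P : Subgroup G) :=
        (Subgroup.mem_normalizer_iff.1 hn _).2 (by
          rw [show n * (n⁻¹ * y * n) * n⁻¹ = y by group]; exact hy)
      have e := Subgroup.mem_centralizer_iff.1 hc _ hy'
      calc y * (n * c * n⁻¹) = n * (n⁻¹ * y * n * c) * n⁻¹ := by group
        _ = n * (c * (n⁻¹ * y * n)) * n⁻¹ := by rw [e]
        _ = _ := by group
    · show ((n * c * n⁻¹ : G) : G ⧸ R) = ((n * r : G) : G ⧸ R) * (c : G ⧸ R) * ((n * r : G) : G ⧸ R)⁻¹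
      rw [show ((n * r : G) : G ⧸ R) = (n : G ⧸ R) from by
        rw [QuotientGroup.mk_mul, (QuotientGroup.eq_one_iff r).2 hr, mul_one]]
      rfl
  have hCR : C ≤ R := by
    by_contra hnot
    have hex : ∃ x ∈ Cb, (χ' : G ⧸ R → ℂ) x ≠ (χ' : G ⧸ R → ℂ) 1 := by
      by_contra hall
      push Not at hall
      refine hnot fun x hx => (hR x).2 ?_
      rw [hinfl]
      exact hall _ ⟨x, hx, rfl⟩
    have h0 := Cfsg.Agent.CharX.sum_coset_eq_zero χ'.2 Cb hex 1
    simp only [one_mul] at h0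
    have hmem : MemLocalIdeal M (∑ x : Cb, ((χ' : G ⧸ R → ℂ) (x : G ⧸ R) - (χ' : G ⧸ R → ℂ) 1)) := by
      refine memLocalIdeal_sum _ _ fun x _ => ?_
      obtain ⟨c, hc, hcx⟩ := x.2
      rw [← hcx]
      have hcl : ¬ 2 ∣ (Subgroup.centralizer ({c} : Set G)).index := fun hd =>
        P.not_dvd_index (hd.trans (Subgroup.index_dvd_of_le fun y hy =>
          Subgroup.mem_centralizer_singleton_iff.2 (Subgroup.mem_centralizer_iff.1 hc y hy)))
      have := value_sub_one_mem hM (mem_rest.1 hχ).1 hcl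
      rw [hinfl] at this
      exact this
    rw [Finset.sum_sub_distrib, h0, zero_sub, Finset.sum_const, Finset.card_univ, nsmul_eq_mul,
      irr_one_eq_charDegree χ', Fintype.card_eq_nat_card, ← Nat.cast_mul] at hmem
    have h2 := MemLocalIdeal.neg hmem
    rw [neg_neg, natCast_memLocalIdeal_iff hM, Nat.prime_two.dvd_mul] at h2
    have hoQ : Odd (Nat.card (G ⧸ R)) := by rw [← Subgroup.index_eq_card]; exact hodd
    rcases h2 with h2 | h2
    · exact Nat.not_even_iff_odd.2 (hoQ.of_dvd_nat Cb.card_subgroup_dvd_card) (even_iff_two_dvd.2 h2)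
    · exact Nat.not_even_iff_odd.2 (hoQ.of_dvd_nat (Cfsg.Agent.CharX.irr_deg_dvd_card χ'))
        (even_iff_two_dvd.2 h2)
  have htop := h.eq_top hM P hq R hodd hCR
  have hconst : ∀ g, (χ : G → ℂ) g = (χ : G → ℂ) 1 := fun g => (hR g).1 (htop ▸ Subgroup.mem_top g)
  have h0 := classInner_irr_of_ne χ.2 (principal G).2 (mem_rest.1 hχ).2
  unfold classInner at h0
  simp [principal, hconst, irr_one_ne_zero χ, Nat.card_eq_fintype_card, Fintype.card_ne_zero] at h0

theorem conj_mem_centralizer {P : Subgroup G} {n c : G} (hn : n ∈ Subgroup.normalizer (P : Set G))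
    (hc : c ∈ Subgroup.centralizer (P : Set G)) : n * c * n⁻¹ ∈ Subgroup.centralizer (P : Set G) := by
  rw [Subgroup.mem_centralizer_iff]
  intro y hy
  have hy' : n⁻¹ * y * n ∈ P :=
    (Subgroup.mem_normalizer_iff.1 hn _).2 (by rw [show n * (n⁻¹ * y * n) * n⁻¹ = y by group]; exact hy)
  have e := Subgroup.mem_centralizer_iff.1 hc _ hy'
  calc y * (n * c * n⁻¹) = n * (n⁻¹ * y * n * c) * n⁻¹ := by group
    _ = n * (c * (n⁻¹ * y * n)) * n⁻¹ := by rw [e]
    _ = _ := by group

/-- A character without trivial constituent on a subgroup has none on a larger one. -/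
theorem sum_eq_zero_of_le (χ : IrrCharacter G) {A C : Subgroup G} [Fintype A] [Fintype C] (hAC : A ≤ C)
    (h : ∑ x : A, (χ : G → ℂ) x = 0) : ∑ y : C, (χ : G → ℂ) y = 0 := by
  classical
  have hres := Char.IsCharacter.restrict (irr_isCharacter χ) C
  obtain ⟨mu, hmu⟩ := Char.IsCharacter.exists_decomp hres
  set S := A.subgroupOf C with hS
  haveI : Fintype S := Fintype.ofFinite _
  choose e he using fun ψ : IrrCharacter C => exists_sum_subgroup_eq S ψ
  have hev : ∀ x : C, (χ : G → ℂ) (x : G) = ∑ ψ, (mu ψ : ℂ) * (ψ : C → ℂ) x := fun x => by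
    have := congrFun hmu x
    simpa [Finset.sum_apply] using this
  have hsumS : ∑ x : S, (χ : G → ℂ) ((x : C) : G) = 0 :=
    Eq.trans (Fintype.sum_equiv (Subgroup.subgroupOfEquivOfLe hAC).toEquiv
      (fun x : S => (χ : G → ℂ) ((x : C) : G)) (fun x : A => (χ : G → ℂ) (x : G)) fun x => rfl) h
  simp only [hev] at hsumS
  rw [Finset.sum_comm] at hsumS
  simp only [← Finset.mul_sum, he] at hsumS
  have h0 : ∑ ψ : IrrCharacter C, mu ψ * (Nat.card S * e ψ) = 0 := by
    have h' : ((∑ ψ : IrrCharacter C, mu ψ * (Nat.card S * e ψ) : ℕ) : ℂ) = ((0 : ℕ) : ℂ) := by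
      push_cast
      rw [← hsumS]
    exact_mod_cast h'
  simp only [hev]
  rw [Finset.sum_comm]
  refine Finset.sum_eq_zero fun ψ _ => ?_
  rw [← Finset.mul_sum]
  by_cases hψ : (ψ : C → ℂ) = fun _ => 1
  · have he0 : e ψ ≠ 0 := fun e0 => by
      have h1 := he ψ
      rw [e0, Nat.cast_zero, mul_zero] at h1
      simp [hψ, Fintype.card_ne_zero] at h1
    rw [(mul_eq_zero.1 (Finset.sum_eq_zero_iff.1 h0 ψ (Finset.mem_univ _))).resolve_right
      (mul_ne_zero Nat.card_pos.ne' he0), Nat.cast_zero, zero_mul]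
  · have := classInner_irr_of_ne ψ.2 (principal C).2 hψ
    simp [classInner, principal, Nat.card_eq_fintype_card, Fintype.card_ne_zero] at this
    rw [this, mul_zero]

/-- The sum over a coset of an odd subgroup commuting with an involution. -/
theorem exists_coset_multiple (χ : IrrCharacter G) {P K : Subgroup G} [Fintype K]
    (hKC : K ≤ Subgroup.centralizer (P : Set G)) (_hPC : P ≤ Subgroup.centralizer (P : Set G))
    (hKodd : Odd (Nat.card K)) {a : G} (ha : a ∈ P) (ha2 : a * a = 1) (ha1 : a ≠ 1) (f : ℕ)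
    (hf : ∑ b : K, (χ : G → ℂ) b = (Nat.card K : ℂ) * f) :
    ∃ g : ℤ, ∑ b : K, (χ : G → ℂ) ((b : G) * a) = (Nat.card K : ℂ) * g := by
  classical
  have hcomm : ∀ b ∈ K, a * b = b * a := fun b hb => Subgroup.mem_centralizer_iff.1 (hKC hb) a ha
  have hinv : a⁻¹ = a := inv_eq_of_mul_eq_one_right ha2
  let H : Subgroup G :=
    { carrier := {x | x ∈ K ∨ x * a ∈ K}
      one_mem' := Or.inl K.one_mem
      mul_mem' := fun {x y} hx hy => by
        rcases hx with hx | hx <;> rcases hy with hy | hy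
        · exact Or.inl (mul_mem hx hy)
        · exact Or.inr (by rw [mul_assoc]; exact mul_mem hx hy)
        · exact Or.inr (by rw [mul_assoc, ← hcomm y hy, ← mul_assoc]; exact mul_mem hx hy)
        · refine Or.inl ?_
          have e : x * y = x * a * (y * a) := by
            have := hcomm _ hy
            calc x * y = x * (y * (a * a)) := by rw [ha2, mul_one]
              _ = x * (y * a * a) := by rw [mul_assoc y a a]
              _ = x * (a * (y * a)) := by rw [this]
              _ = _ := by rw [mul_assoc x a]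
          rw [e]; exact mul_mem hx hy
      inv_mem' := fun {x} hx => by
        rcases hx with hx | hx
        · exact Or.inl (inv_mem hx)
        · refine Or.inr ?_
          have h1 := inv_mem hx
          rw [mul_inv_rev, hinv] at h1
          have h2 := hcomm _ h1
          have e : x⁻¹ * a = a * x⁻¹ := by
            calc x⁻¹ * a = (a * a) * (x⁻¹ * a) := by rw [ha2, one_mul]
              _ = a * (a * x⁻¹) * a := by group
              _ = a * ((a * x⁻¹) * a) := by rw [mul_assoc]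
              _ = a * (a * (a * x⁻¹)) := by rw [h2]
              _ = (a * a) * (a * x⁻¹) := by group
              _ = _ := by rw [ha2, one_mul]
          rw [e]; exact h1 }
  haveI : Fintype H := Fintype.ofFinite _
  have hH : ∀ x : G, x ∈ H ↔ x ∈ K ∨ x * a ∈ K := fun _ => Iff.rfl
  have hinr : ∀ b : K, (b : G) * a ∈ H := fun b =>
    (hH _).2 (Or.inr (by rw [mul_assoc, ha2, mul_one]; exact b.2))
  have hinl : ∀ b : K, (b : G) ∈ H := fun b => (hH _).2 (Or.inl b.2)
  let emb : Sum K K → H := Sum.elim (fun b : K => (⟨(b : G), hinl b⟩ : H))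
    (fun b : K => (⟨(b : G) * a, hinr b⟩ : H))
  have haK : a ∉ K := fun haK => ha1 (orderOf_eq_one_iff.1 (Nat.eq_one_of_dvd_coprimes
    (Nat.coprime_two_left.2 hKodd) (orderOf_dvd_of_pow_eq_one (by rw [pow_two]; exact ha2))
    (Subgroup.orderOf_dvd_natCard K haK)))
  have hemb : Function.Bijective emb := by
    refine ⟨?_, fun x => ?_⟩
    · rintro (b | b) (b' | b') e <;> have e' := congrArg Subtype.val e <;> simp only [emb, Sum.elim_inl, Sum.elim_inr] at e'
      · rw [Subtype.ext e']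
      · exact absurd (by rw [show a = (b' : G)⁻¹ * b by rw [e']; group]; exact mul_mem (inv_mem b'.2) b.2) haK
      · exact absurd (by rw [show a = (b : G)⁻¹ * b' by rw [← e']; group]; exact mul_mem (inv_mem b.2) b'.2) haK
      · rw [Subtype.ext (mul_right_cancel e')]
    · rcases (hH _).1 x.2 with hx | hx
      · exact ⟨Sum.inl ⟨x, hx⟩, Subtype.ext rfl⟩
      · exact ⟨Sum.inr ⟨_, hx⟩, Subtype.ext (show (x : G) * a * a = x by rw [mul_assoc, ha2, mul_one])⟩
  obtain ⟨g, hg⟩ := exists_sum_subgroup_eq H χ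
  have hcard : Nat.card H = Nat.card K + Nat.card K := by
    rw [← Nat.card_eq_of_bijective emb hemb, Nat.card_sum]
  have hsum : ∑ x : H, (χ : G → ℂ) x =
      ∑ b : K, (χ : G → ℂ) b + ∑ b : K, (χ : G → ℂ) ((b : G) * a) := by
    rw [← Fintype.sum_bijective emb hemb (fun z => (χ : G → ℂ) (emb z)) (fun x => (χ : G → ℂ) x) fun _ => rfl,
      Fintype.sum_sum_type]
    rfl
  rw [hg, hf, hcard] at hsum
  refine ⟨2 * (g : ℤ) - f, ?_⟩
  push_cast
  push_cast at hsum
  linear_combination -hsum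

theorem Core.sylow_sq (h : Core M u t k) (P : Sylow 2 G) {a : G} (ha : a ∈ (P : Subgroup G)) :
    a * a = 1 := by
  haveI : Fact (Nat.Prime 2) := ⟨Nat.prime_two⟩
  obtain ⟨j, hj⟩ := IsPGroup.iff_orderOf.1 P.isPGroup' ⟨a, ha⟩
  rw [Subgroup.orderOf_mk] at hj
  exact h.sq a ⟨j, hj⟩

theorem Core.sylow_comm (h : Core M u t k) (P : Sylow 2 G) :
    ∀ a ∈ (P : Subgroup G), ∀ b ∈ (P : Subgroup G), a * b = b * a := by
  have hinv : ∀ a ∈ (P : Subgroup G), a⁻¹ = a := fun a ha =>
    inv_eq_of_mul_eq_one_right (h.sylow_sq P ha)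
  intro a ha b hb
  rw [← hinv _ (mul_mem ha hb), mul_inv_rev, hinv a ha, hinv b hb]

theorem Core.orderOf_mem (h : Core M u t k) (P : Sylow 2 G) {a : G} (ha : a ∈ (P : Subgroup G))
    (ha1 : a ≠ 1) : orderOf a = 2 :=
  orderOf_eq_prime (by rw [pow_two]; exact h.sylow_sq P ha) ha1

theorem Core.value_mem (h : Core M u t k) (P : Sylow 2 G) (χ : IrrCharacter G) {a : G}
    (ha : a ∈ (P : Subgroup G)) (ha1 : a ≠ 1) : (χ : G → ℂ) a = (χ : G → ℂ) t :=
  irr_isConj χ (h.conj_invol _ (h.orderOf_mem P ha ha1))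

/-- The normaliser of the Sylow subgroup is transitive on its involutions. -/
theorem Core.exists_normalizer (h : Core M u t k) (P : Sylow 2 G) {a b : G}
    (ha : a ∈ (P : Subgroup G)) (ha1 : a ≠ 1) (hb : b ∈ (P : Subgroup G)) (hb1 : b ≠ 1) :
    ∃ n ∈ Subgroup.normalizer ((P : Subgroup G) : Set G), n * a * n⁻¹ = b := by
  haveI : Fact (Nat.Prime 2) := ⟨Nat.prime_two⟩
  haveI : IsMulCommutative (P : Subgroup G) :=
    ⟨⟨fun x y => Subtype.ext (h.sylow_comm P x x.2 y y.2)⟩⟩
  obtain ⟨c, hc⟩ := isConj_iff.1 ((h.conj_invol a (h.orderOf_mem P ha ha1)).symm.trans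
    (h.conj_invol b (h.orderOf_mem P hb hb1)))
  obtain ⟨n, hn, hn'⟩ := Sylow.conj_eq_normalizer_conj_of_mem P a c⁻¹ ha (by rw [inv_inv]; exact hc ▸ hb)
  refine ⟨n⁻¹, inv_mem hn, ?_⟩
  rw [inv_inv, hc] at hn'
  rw [inv_inv]
  exact hn'.symm

/-- A non-principal member of the block is faithful. -/
theorem Core.faithful (h : Core M u t k) (hM : IsPModular 2 M) (P : Sylow 2 G)
    (hq : 4 ≤ Nat.card (P : Subgroup G)) {χ : IrrCharacter G} (hχ : χ ∈ rest M G) {g : G}
    (hg : (χ : G → ℂ) g = (χ : G → ℂ) 1) : g = 1 := by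
  classical
  haveI : Fact (Nat.Prime 2) := ⟨Nat.prime_two⟩
  obtain ⟨R, hRn, hR, -, -⟩ := Cfsg.Agent.CharX.exists_ker χ
  have hR2 : ¬ 2 ∣ Nat.card R := by
    intro hd
    obtain ⟨⟨v, hv⟩, hv2⟩ := exists_prime_orderOf_dvd_card' (G := R) 2 hd
    rw [Subgroup.orderOf_mk] at hv2
    obtain ⟨c, hc⟩ := isConj_iff.1 (h.conj_invol v hv2).symm
    exact h.ne_degree hM P hq hχ ((hR t).1 (hc ▸ hRn.conj_mem v hv c))
  have hle : R ≤ Cfsg.oddCore G := Cfsg.Agent.PBasic.le_pPrimeCore hRn
    ((Nat.Prime.coprime_iff_not_dvd Nat.prime_two).2 hR2).symm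
  rw [h.core] at hle
  exact Subgroup.mem_bot.1 (hle ((hR g).2 hg))

/-- What the characters of the block look like. -/
theorem Core.shape_chars (h : Core M u t k) (hM : IsPModular 2 M) (P : Sylow 2 G)
    (hq : 4 ≤ Nat.card (P : Subgroup G)) :
    (∀ χ ∈ rest M G, ∃ c : ℕ, charDegree (χ : G → ℂ) + 1 = Nat.card (P : Subgroup G) + c ∧
      (χ : G → ℂ) t = (c : ℂ) - 1 ∧ (χ : G → ℂ) u = (χ : G → ℂ) t) ∧
    ∃ χ ∈ rest M G, charDegree (χ : G → ℂ) + 1 = Nat.card (P : Subgroup G) ∧ (χ : G → ℂ) t = -1 := by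
  classical
  haveI : Fact (Nat.Prime 2) := ⟨Nat.prime_two⟩
  haveI : Fintype (P : Subgroup G) := Fintype.ofFinite _
  set q := Nat.card (P : Subgroup G) with hqd
  choose n hn hnd using fun χ : IrrCharacter G => char_involution χ h.invol
  choose c hc using fun χ : IrrCharacter G => exists_sum_subgroup_eq (P : Subgroup G) χ
  have hd := degSq_eq_mul hM P c fun χ => by
    intro i
    convert hc χ
  have hdeg : ∀ χ : IrrCharacter G, (charDegree (χ : G → ℂ) : ℤ) + ((q : ℤ) - 1) * n χ = q * c χ := by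
    intro χ
    have e := hc χ
    rw [← Finset.add_sum_erase _ _ (Finset.mem_univ (1 : (P : Subgroup G))),
      Finset.sum_congr rfl (g := fun _ => (n χ : ℂ)) (fun x hx => ?_), Finset.sum_const,
      Finset.card_erase_of_mem (Finset.mem_univ _), Finset.card_univ, nsmul_eq_mul,
      OneMemClass.coe_one, irr_one_eq_charDegree χ, Fintype.card_eq_nat_card] at e
    · rw [Nat.cast_sub (by omega)] at e
      push_cast at e
      exact_mod_cast e
    · rw [h.value_mem P χ x.2 fun e => (Finset.mem_erase.1 hx).1 (Subtype.ext e), hn]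
  have hm : ∀ χ ∈ rest M G, 1 ≤ (c χ : ℤ) - n χ := by
    intro χ hχ
    have hle : n χ ≤ (charDegree (χ : G → ℂ) : ℤ) := by
      have h1 := IsIrrCharacter.norm_le χ.2 (irr_one_eq_charDegree χ) t
      rw [hn, Complex.norm_intCast] at h1
      have h2 : ((n χ : ℤ) : ℝ) ≤ ((charDegree (χ : G → ℂ) : ℕ) : ℝ) := (le_abs_self _).trans h1
      exact_mod_cast h2
    have hne : n χ ≠ (charDegree (χ : G → ℂ) : ℤ) := fun e => h.ne_degree hM P hq hχ (by
      rw [hn, e, irr_one_eq_charDegree χ, Int.cast_natCast])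
    have h1 := hdeg χ
    by_contra hlt
    push Not at hlt
    have h2 : (q : ℤ) * ((c χ : ℤ) - n χ) ≤ 0 := mul_nonpos_of_nonneg_of_nonpos (by positivity) (by omega)
    nlinarith [lt_of_le_of_ne hle hne]
  -- the column of the element
  have hB := isPBlock_principalBlock M G
  have h1 : blockPair (principalBlock M G) 1 u = 0 :=
    blockPair_regular_singular hM hB (by simp) h.u_singular
  rw [blockPair_split] at h1
  have hu : ∀ χ ∈ rest M G, (χ : G → ℂ) u = (charDegree (χ : G → ℂ) : ℂ) - (q : ℂ) := fun χ hχ => by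
    rw [← irr_one_eq_charDegree χ, ← h.const_eq hM P, ← h.diff χ hχ]; ring
  have h2 : (1 : ℤ) + ∑ χ ∈ rest M G,
      (charDegree (χ : G → ℂ) : ℤ) * ((charDegree (χ : G → ℂ) : ℤ) - q) = 0 := by
    have e : (((1 : ℤ) + ∑ χ ∈ rest M G,
        (charDegree (χ : G → ℂ) : ℤ) * ((charDegree (χ : G → ℂ) : ℤ) - q) : ℤ) : ℂ) = ((0 : ℤ) : ℂ) := by
      push_cast
      rw [← h1]
      refine congrArg₂ _ rfl (Finset.sum_congr rfl fun χ hχ => ?_)
      rw [hu χ hχ, map_sub, map_natCast, map_natCast, irr_one_eq_charDegree χ]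
    exact_mod_cast e
  have h3 : ∑ χ ∈ rest M G, (charDegree (χ : G → ℂ) : ℤ) * (1 - (c χ : ℤ)) = 1 := by
    have hd' : (degSq M G : ℤ) =
        (q : ℤ) * (1 + ∑ χ ∈ rest M G, (charDegree (χ : G → ℂ) : ℤ) * c χ) := by exact_mod_cast hd
    have hd2 : (degSq M G : ℤ) = (q : ℤ) * ∑ χ ∈ rest M G, (charDegree (χ : G → ℂ) : ℤ) := by
      unfold degSq
      push_cast
      simp only [mul_sub, Finset.sum_sub_distrib, ← Finset.sum_mul] at h2
      linarith
    have e := mul_left_cancel₀ (show (q : ℤ) ≠ 0 by omega) (hd'.symm.trans hd2)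
    simp only [mul_sub, mul_one, Finset.sum_sub_distrib]
    linarith
  have h4 : ∑ χ ∈ rest M G,
      (charDegree (χ : G → ℂ) : ℤ) * (((q : ℤ) - 1) * ((c χ : ℤ) - n χ - 1)) = 0 := by
    have e : ∀ χ ∈ rest M G, (charDegree (χ : G → ℂ) : ℤ) * (((q : ℤ) - 1) * ((c χ : ℤ) - n χ - 1)) =
        (charDegree (χ : G → ℂ) : ℤ) * ((charDegree (χ : G → ℂ) : ℤ) - q) +
          (charDegree (χ : G → ℂ) : ℤ) * (1 - (c χ : ℤ)) := by
      intro χ _
      have := hdeg χ
      rw [← mul_add]
      congr 1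
      linarith
    rw [Finset.sum_congr rfl e, Finset.sum_add_distrib, h3]
    linarith
  have h5 : ∀ χ ∈ rest M G, (c χ : ℤ) - n χ = 1 := by
    intro χ hχ
    have h0 := (Finset.sum_eq_zero_iff_of_nonneg fun χ hχ => ?_).1 h4 χ hχ
    · have hpos : (charDegree (χ : G → ℂ) : ℤ) ≠ 0 := by
        exact_mod_cast (charDegree_pos χ).ne'
      have hq1 : ((q : ℤ) - 1) ≠ 0 := by omega
      have := (mul_eq_zero.1 ((mul_eq_zero.1 h0).resolve_left hpos)).resolve_left hq1
      linarith
    · exact mul_nonneg (Int.natCast_nonneg _) (mul_nonneg (by omega) (by linarith [hm χ hχ]))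
  have h6 : ∀ χ ∈ rest M G, (charDegree (χ : G → ℂ) : ℤ) + 1 = q + c χ := by
    intro χ hχ
    have := hdeg χ
    rw [show n χ = (c χ : ℤ) - 1 by linarith [h5 χ hχ]] at this
    linarith
  refine ⟨fun χ hχ => ⟨c χ, by exact_mod_cast h6 χ hχ, ?_, ?_⟩, ?_⟩
  · rw [hn, show n χ = (c χ : ℤ) - 1 by linarith [h5 χ hχ]]; push_cast; ring
  · rw [hu χ hχ, hn]
    have e : (charDegree (χ : G → ℂ) : ℤ) - q = n χ := by linarith [h5 χ hχ, h6 χ hχ]
    rw [← e]
    push_cast
    ring
  · by_contra hall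
    push Not at hall
    have : ∑ χ ∈ rest M G, (charDegree (χ : G → ℂ) : ℤ) * (1 - (c χ : ℤ)) ≤ 0 := by
      refine Finset.sum_nonpos fun χ hχ => mul_nonpos_of_nonneg_of_nonpos (Int.natCast_nonneg _) ?_
      rcases Nat.eq_zero_or_pos (c χ) with e | e
      · refine absurd ?_ (hall χ hχ ?_)
        · rw [hn, show n χ = -1 by linarith [h5 χ hχ, show (c χ : ℤ) = 0 by exact_mod_cast e]]
          norm_num
        · have := h6 χ hχ
          rw [e] at this
          exact_mod_cast this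
      · have : (1 : ℤ) ≤ c χ := by exact_mod_cast e
        linarith
    linarith

/-- The centraliser of the Sylow subgroup is the Sylow subgroup. -/
theorem Core.cent_sylow (h : Core M u t k) (hM : IsPModular 2 M) (P : Sylow 2 G)
    (hq : 4 ≤ Nat.card (P : Subgroup G)) :
    Subgroup.centralizer ((P : Subgroup G) : Set G) ≤ (P : Subgroup G) := by
  classical
  haveI : Fact (Nat.Prime 2) := ⟨Nat.prime_two⟩
  obtain ⟨-, χ, hχ, hdeg, hval⟩ := h.shape_chars hM P hq
  set d := charDegree (χ : G → ℂ) with hdd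
  have hfaith : ∀ g : G, (χ : G → ℂ) g = (χ : G → ℂ) 1 → g = 1 := fun g => h.faithful hM P hq hχ
  set C := Subgroup.centralizer ((P : Subgroup G) : Set G) with hC
  have hcomm := h.sylow_comm P
  have hPC : (P : Subgroup G) ≤ C := fun a ha => Subgroup.mem_centralizer_iff.2 fun b hb => hcomm b hb a ha
  let S : Sylow 2 C := P.subtype hPC
  have hSc : Subgroup.normalizer ((S : Subgroup C) : Set C) ≤
      Subgroup.centralizer ((S : Subgroup C) : Set C) := fun x _ =>
    Subgroup.mem_centralizer_iff.2 fun y hy => Subtype.ext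
      (Subgroup.mem_centralizer_iff.1 x.2 (y : G) (by exact hy))
  have hKc := MonoidHom.ker_transferSylow_isComplement' S hSc
  set K₀ := (MonoidHom.transferSylow S hSc).ker with hK₀
  set K := K₀.map C.subtype with hKdef
  have hKodd : Odd (Nat.card K) := by
    rw [← Nat.not_even_iff_odd, even_iff_two_dvd, hKdef, Subgroup.card_map_of_injective C.subtype_injective,
      ← hKc.index_eq_card]
    exact S.not_dvd_index
  have hKC : K ≤ C := Subgroup.map_subtype_le _
  -- the complement is the set of elements of odd order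
  have hKmem : ∀ c ∈ C, Odd (orderOf c) → c ∈ K := by
    intro c hc ho
    refine ⟨⟨c, hc⟩, ?_, rfl⟩
    have h1 : orderOf (MonoidHom.transferSylow S hSc ⟨c, hc⟩) ∣ orderOf c := by
      refine (orderOf_map_dvd _ _).trans ?_
      rw [Subgroup.orderOf_mk]
    obtain ⟨j, hj⟩ := IsPGroup.iff_orderOf.1 S.isPGroup' (MonoidHom.transferSylow S hSc ⟨c, hc⟩)
    exact orderOf_eq_one_iff.1 (Nat.eq_one_of_dvd_coprimes ((Nat.coprime_two_left.2 ho).pow_left j) hj.dvd h1)
  have hnK : ∀ n ∈ Subgroup.normalizer ((P : Subgroup G) : Set G), ∀ b ∈ K, n * b * n⁻¹ ∈ K := by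
    intro n hn b hb
    refine hKmem _ (conj_mem_centralizer hn (hKC hb)) ?_
    rw [← MulAut.conj_apply, MulEquiv.orderOf_eq]
    exact hKodd.of_dvd_nat (Subgroup.orderOf_dvd_natCard K hb)
  haveI : Fintype K := Fintype.ofFinite _
  haveI : Fintype C := Fintype.ofFinite _
  haveI : Fintype (P : Subgroup G) := Fintype.ofFinite _
  -- the sum over the centraliser vanishes
  have hsumP : ∑ x : (P : Subgroup G), (χ : G → ℂ) x = 0 := by
    rw [← Finset.add_sum_erase _ _ (Finset.mem_univ (1 : (P : Subgroup G))),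
      Finset.sum_congr rfl (g := fun _ => (-1 : ℂ))
        (fun (x : (P : Subgroup G)) hx => (h.value_mem P χ x.2 fun e => (Finset.mem_erase.1 hx).1 (Subtype.ext e)).trans hval),
      Finset.sum_const,
      Finset.card_erase_of_mem (Finset.mem_univ _), Finset.card_univ, Fintype.card_eq_nat_card,
      OneMemClass.coe_one, irr_one_eq_charDegree χ, nsmul_eq_mul, ← hdd,
      Nat.cast_sub (by omega), ← hdeg]
    push_cast
    ring
  have hsumC : ∑ y : C, (χ : G → ℂ) y = 0 := sum_eq_zero_of_le χ hPC hsumP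
  obtain ⟨f, hf⟩ := exists_sum_subgroup_eq K χ
  have hsplit : ∑ y : C, (χ : G → ℂ) y = ∑ a : (P : Subgroup G), ∑ b : K, (χ : G → ℂ) ((b : G) * a) := by
    rw [← Fintype.sum_prod_type']
    let e : Prod (P : Subgroup G) K → C := fun x =>
      ⟨(x.2 : G) * x.1, mul_mem (hKC x.2.2) (hPC x.1.2)⟩
    refine (Fintype.sum_bijective e ⟨?_, ?_⟩ _ _ fun x => rfl).symm
    · rintro ⟨a, b⟩ ⟨a', b'⟩ hh
      have he : (b : G) * a = (b' : G) * a' := congrArg Subtype.val hh
      have h1 : (b' : G)⁻¹ * b = a' * (a : G)⁻¹ := by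
        rw [eq_mul_inv_iff_mul_eq, mul_assoc, he]; group
      have h2 : (b' : G)⁻¹ * b = 1 := by
        obtain ⟨j, hj⟩ := IsPGroup.iff_orderOf.1 P.isPGroup'
          ⟨(a' : G) * (a : G)⁻¹, mul_mem a'.2 (inv_mem a.2)⟩
        rw [Subgroup.orderOf_mk, ← h1] at hj
        refine orderOf_eq_one_iff.1 (Nat.eq_one_of_dvd_coprimes ((Nat.coprime_two_left.2 hKodd).pow_left j)
          hj.dvd (Subgroup.orderOf_dvd_natCard K (mul_mem (inv_mem b'.2) b.2)))
      rw [h2] at h1
      exact Prod.ext (Subtype.ext (mul_inv_eq_one.1 h1.symm).symm) (Subtype.ext (inv_mul_eq_one.1 h2).symm)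
    · intro y
      obtain ⟨⟨b, a⟩, hh⟩ := hKc.2 y
      exact ⟨(⟨((a : C) : G), by exact a.2⟩, ⟨((b : C) : G), ⟨b, b.2, rfl⟩⟩),
        Subtype.ext (congrArg Subtype.val hh)⟩
  have hK0 : ∑ b : K, (χ : G → ℂ) (b : G) = (Nat.card K : ℂ) * (charDegree (χ : G → ℂ) : ℂ) := by
    -- the first coset and the others
    obtain ⟨a₀, ha₀, ha₀1⟩ : ∃ a ∈ (P : Subgroup G), a ≠ 1 := by
      by_contra hall
      push Not at hall
      have : Nat.card (P : Subgroup G) = 1 :=
        (Subgroup.eq_bot_iff_forall _).2 hall |> fun e => by rw [e, Subgroup.card_bot]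
      omega
    set T := ∑ b : K, (χ : G → ℂ) ((b : G) * a₀) with hT
    have hcos : ∀ a ∈ (P : Subgroup G), a ≠ 1 → ∑ b : K, (χ : G → ℂ) ((b : G) * a) = T := by
      intro a ha ha1
      obtain ⟨n, hn, hna⟩ := h.exists_normalizer P ha₀ ha₀1 ha ha1
      rw [hT, ← hna]
      have hinj : Function.Injective (fun b : K => (⟨n * b * n⁻¹, hnK n hn b b.2⟩ : K)) := fun b b' e => by
        have := congrArg Subtype.val e
        simpa using this
      refine (Fintype.sum_bijective (fun b : K => (⟨n * b * n⁻¹, hnK n hn b b.2⟩ : K))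
        ((Finite.injective_iff_bijective).1 hinj) (fun b : K => (χ : G → ℂ) ((b : G) * a₀))
        (fun b : K => (χ : G → ℂ) ((b : G) * (n * a₀ * n⁻¹))) fun b => ?_).symm
      show (χ : G → ℂ) ((b : G) * a₀) = (χ : G → ℂ) (n * b * n⁻¹ * (n * a₀ * n⁻¹))
      rw [show n * (b : G) * n⁻¹ * (n * a₀ * n⁻¹) = n * ((b : G) * a₀) * n⁻¹ by group,
        irr_conj_invariant]
    rw [hsplit, ← Finset.add_sum_erase _ _ (Finset.mem_univ (1 : (P : Subgroup G))),
      Finset.sum_congr rfl (g := fun _ => T)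
        (fun (x : (P : Subgroup G)) hx => hcos x x.2 fun e => (Finset.mem_erase.1 hx).1 (Subtype.ext e)),
      Finset.sum_const, Finset.card_erase_of_mem (Finset.mem_univ _), Finset.card_univ,
      Fintype.card_eq_nat_card, ← hdeg, Nat.add_sub_cancel, nsmul_eq_mul] at hsumC
    simp only [OneMemClass.coe_one, mul_one, hf] at hsumC
    -- the sum over the group generated by the complement and the involution
    set H := K ⊔ Subgroup.zpowers a₀ with hH
    obtain ⟨g, hg⟩ : ∃ g : ℤ, T = (Nat.card K : ℂ) * g :=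
      exists_coset_multiple χ hKC hPC hKodd ha₀ (h.sylow_sq P ha₀) ha₀1 f hf
    rw [hg] at hsumC
    have e1 : (f : ℤ) + (d : ℤ) * g = 0 := by
      have e2 : (Nat.card K : ℂ) * (((f : ℤ) + (d : ℤ) * g : ℤ) : ℂ) = (Nat.card K : ℂ) * ((0 : ℤ) : ℂ) := by
        push_cast
        rw [mul_zero, ← hsumC]
        ring
      exact_mod_cast mul_left_cancel₀ (Nat.cast_ne_zero.2 Nat.card_pos.ne') e2
    have hle : f ≤ d := by
      have h1 : ‖(Nat.card K : ℂ) * (f : ℂ)‖ ≤ (Nat.card K : ℝ) * d := by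
        rw [← hf]
        refine (norm_sum_le _ _).trans ((Finset.sum_le_sum (s := Finset.univ) (f := fun b : K => ‖(χ : G → ℂ) (b : G)‖) fun b _ =>
          IsIrrCharacter.norm_le χ.2 (irr_one_eq_charDegree χ) (b : G)).trans ?_)
        rw [Finset.sum_const, Finset.card_univ, nsmul_eq_mul, Fintype.card_eq_nat_card]
      rw [norm_mul, Complex.norm_natCast, Complex.norm_natCast] at h1
      exact_mod_cast le_of_mul_le_mul_left h1 (by exact_mod_cast Nat.card_pos)
    have hf1 : f ≠ 0 := by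
      intro f0
      have hmem : MemLocalIdeal M (∑ b : K, ((χ : G → ℂ) (b : G) - (χ : G → ℂ) 1)) :=
        memLocalIdeal_sum _ _ fun b _ => value_sub_one_mem hM (mem_rest.1 hχ).1 fun hd =>
          P.not_dvd_index (hd.trans (Subgroup.index_dvd_of_le fun y hy =>
            Subgroup.mem_centralizer_singleton_iff.2 (Subgroup.mem_centralizer_iff.1 (hKC b.2) y hy)))
      rw [Finset.sum_sub_distrib, hf, f0, Nat.cast_zero, mul_zero, zero_sub, Finset.sum_const,
        Finset.card_univ, nsmul_eq_mul, Fintype.card_eq_nat_card, irr_one_eq_charDegree χ,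
        ← Nat.cast_mul] at hmem
      have h2 := MemLocalIdeal.neg hmem
      rw [neg_neg, natCast_memLocalIdeal_iff hM, Nat.prime_two.dvd_mul] at h2
      rcases h2 with h2 | h2
      · exact Nat.not_even_iff_odd.2 hKodd (even_iff_two_dvd.2 h2)
      · obtain ⟨j, hj⟩ : ∃ j, Nat.card (P : Subgroup G) = 2 ^ j := ⟨_, P.card_eq_multiplicity⟩
        rcases j with _ | j
        · omega
        · rw [← hdd] at h2
          rw [pow_succ] at hj
          omega
    have hfd : f = d := by
      refine le_antisymm hle (Nat.le_of_dvd (Nat.pos_of_ne_zero hf1) ?_)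
      have : (d : ℤ) ∣ (f : ℤ) := ⟨-g, by linarith⟩
      exact_mod_cast this
    rw [hf, hfd]
  have hKtriv : ∀ b ∈ K, b = 1 := by
    intro b hb
    refine hfaith b ?_
    have hre : ∀ x : K, ((χ : G → ℂ) (x : G)).re ≤ (charDegree (χ : G → ℂ) : ℝ) := fun x =>
      (Complex.re_le_norm _).trans (IsIrrCharacter.norm_le χ.2 (irr_one_eq_charDegree χ) (x : G))
    have hsum : ∑ x : K, ((χ : G → ℂ) (x : G)).re = ∑ _x : K, (charDegree (χ : G → ℂ) : ℝ) := by
      rw [← Complex.re_sum, hK0, Finset.sum_const, Finset.card_univ, nsmul_eq_mul, Fintype.card_eq_nat_card]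
      simp [Complex.mul_re]
    have h1 := (Finset.sum_eq_sum_iff_of_le fun x _ => hre x).1 hsum ⟨b, hb⟩ (Finset.mem_univ _)
    have h2 := IsIrrCharacter.norm_le χ.2 (irr_one_eq_charDegree χ) b
    rw [irr_one_eq_charDegree χ]
    have h3 : ((χ : G → ℂ) b).im = 0 := by
      have h4 : ((χ : G → ℂ) b).re ^ 2 + ((χ : G → ℂ) b).im ^ 2 ≤ (charDegree (χ : G → ℂ) : ℝ) ^ 2 := by
        have := pow_le_pow_left₀ (norm_nonneg _) h2 2
        rw [Complex.sq_norm, Complex.normSq_apply] at this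
        linarith
      have h1' : ((χ : G → ℂ) b).re = (charDegree (χ : G → ℂ) : ℝ) := h1
      rw [h1'] at h4
      exact pow_eq_zero_iff two_ne_zero |>.1 (le_antisymm (by linarith) (sq_nonneg _))
    exact Complex.ext (by simpa using h1) (by simpa using h3)
  intro c hc
  obtain ⟨⟨b, a⟩, hh⟩ := hKc.2 ⟨c, hc⟩
  have hb1 := hKtriv _ ⟨b, b.2, rfl⟩
  rw [← show ((b : C) : G) * ((a : C) : G) = c from congrArg Subtype.val hh,
    show ((b : C) : G) = 1 from hb1, one_mul]
  exact a.2

end Cfsg.Agent.ConstDiff
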