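import Cfsg.Agent.Lib.ThreeOrd.Simple
import Cfsg.Agent.Lib.JanThom.PSL2Data
import Cfsg.Agent.Lib.AbelInv.Main
import Mathlib.LinearAlgebra.Matrix.Trace

/-!
Involutions and classes of PSL₂ over the fields of the conclusion.
-/

set_option autoImplicit false
set_option linter.unusedSectionVars false
set_option linter.style.haveILetI false

namespace Cfsg.Agent.ConstDiff

universe v

variable {F : Type v} [Field F] [Fintype F]

local notation "SL2" => Matrix.SpecialLinearGroup (Fin 2) F
local notation "PSL2" => Matrix.ProjectiveSpecialLinearGroup (Fin 2) F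

theorem charTwo_of_card {n : ℕ} (hF : Fintype.card F = 2 ^ n) : CharP F 2 := by
  obtain ⟨p, hp⟩ := CharP.exists F
  obtain ⟨⟨m, hm⟩, hpp, hc⟩ := FiniteField.card F p
  have h2 : p ∣ 2 ^ n := by rw [← hF, hc]; exact dvd_pow_self p hm.ne'
  rwa [← (Nat.prime_dvd_prime_iff_eq hpp Nat.prime_two).1 (hpp.dvd_of_dvd_pow h2)]

theorem mk_bijective [CharP F 2] :
    Function.Bijective (QuotientGroup.mk' (Subgroup.center SL2) : SL2 → PSL2) := by
  refine ⟨?_, QuotientGroup.mk'_surjective _⟩
  rw [← MonoidHom.ker_eq_bot_iff, QuotientGroup.ker_mk', eq_bot_iff]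
  intro g hg
  obtain ⟨r, hr, hg'⟩ := Matrix.SpecialLinearGroup.mem_center_iff.1 hg
  rw [Fintype.card_fin] at hr
  have hr1 : r = 1 := by
    have h0 : (r - 1) ^ 2 = 0 := by
      rw [sub_sq, hr, mul_one, one_pow, show (2 : F) = 0 from CharTwo.two_eq_zero, zero_mul,
        sub_zero, CharTwo.add_self_eq_zero]
    exact sub_eq_zero.1 (eq_zero_of_pow_eq_zero h0)
  rw [Subgroup.mem_bot]
  refine Subtype.ext ?_
  rw [← hg', hr1]
  simp

/-- The upper unipotent element. -/
def uOne : SL2 := ⟨!![1, 1; 0, 1], by simp [Matrix.det_fin_two]⟩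

theorem sl_two_invol_conj [CharP F 2] {g : SL2} (hg2 : g * g = 1) (hg1 : g ≠ 1) :
    IsConj (uOne : SL2) g := by
  have hd : g.1 0 0 * g.1 1 1 - g.1 0 1 * g.1 1 0 = 1 := by
    rw [← Matrix.det_fin_two]; exact g.det_coe
  have hs : ∀ i j, (g.1 * g.1) i j = (1 : Matrix (Fin 2) (Fin 2) F) i j := fun i j =>
    congrFun (congrFun (congrArg Subtype.val hg2) i) j
  have hg00 := hs 0 0
  have hg11 := hs 1 1
  simp [Matrix.mul_apply, Fin.sum_univ_two] at hg00 hg11
  have htr : g.1 1 1 = g.1 0 0 := by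
    have h2 : (g.1 0 0 + g.1 1 1) * (g.1 0 0 + g.1 1 1) = 0 := by
      linear_combination (norm := (ring_nf; reduce_mod_char!)) hg00 + hg11
    exact (CharTwo.add_eq_zero.1 (mul_self_eq_zero.1 h2)).symm
  obtain ⟨x, hx⟩ := FiniteField.isSquare_of_char_two (ringChar.eq F 2) (g.1 0 1)
  obtain ⟨y, hy⟩ := FiniteField.isSquare_of_char_two (ringChar.eq F 2) (g.1 1 0)
  have ha : g.1 0 0 = 1 + x * y := by
    rw [htr, hx, hy] at hd
    have h0 : (g.1 0 0 + (1 + x * y)) * (g.1 0 0 + (1 + x * y)) = 0 := by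
      linear_combination (norm := (ring_nf; reduce_mod_char!)) hd
    exact CharTwo.add_eq_zero.1 (mul_self_eq_zero.1 h0)
  have key : ∀ k : SL2, k.1 0 0 = x → k.1 1 0 = y → g * k = k * uOne := by
    intro k h0 h1
    have hk : k.1 0 0 * k.1 1 1 - k.1 0 1 * k.1 1 0 = 1 := by
      rw [← Matrix.det_fin_two]; exact k.det_coe
    rw [h0, h1] at hk
    refine Subtype.ext ?_
    rw [Matrix.SpecialLinearGroup.coe_mul, Matrix.SpecialLinearGroup.coe_mul]
    ext i j
    fin_cases i <;> fin_cases j <;>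
      simp [Matrix.mul_apply, Fin.sum_univ_two, uOne, hx, hy, ha, htr, h0, h1] <;>
      first
        | linear_combination (norm := (ring_nf; reduce_mod_char!; done)) (0 : F)
        | linear_combination (norm := (ring_nf; reduce_mod_char!; done)) x * hk
        | linear_combination (norm := (ring_nf; reduce_mod_char!; done)) y * hk
  obtain ⟨k, hk0, hk1⟩ : ∃ k : SL2, k.1 0 0 = x ∧ k.1 1 0 = y := by
    by_cases hx0 : x = 0
    · have hy0 : y ≠ 0 := by
        intro hy0
        refine hg1 (Subtype.ext ?_)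
        ext i j
        fin_cases i <;> fin_cases j <;> simp [hx, hy, ha, htr, hx0, hy0]
      exact ⟨⟨!![0, y⁻¹; y, 0], by
        rw [Matrix.det_fin_two_of, zero_mul, inv_mul_cancel₀ hy0, zero_sub, CharTwo.neg_eq]⟩,
        by simp [hx0], by simp⟩
    · exact ⟨⟨!![x, 0; y, x⁻¹], by
        rw [Matrix.det_fin_two_of, mul_inv_cancel₀ hx0, zero_mul, sub_zero]⟩, by simp, by simp⟩
  exact isConj_iff.2 ⟨k, by rw [← key k hk0 hk1, mul_inv_cancel_right]⟩

theorem psl_two_invol_conj [CharP F 2] {a b : PSL2} (ha : orderOf a = 2) (hb : orderOf b = 2) :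
    IsConj a b := by
  let e := MulEquiv.ofBijective _ (mk_bijective (F := F))
  have h : ∀ a : PSL2, orderOf a = 2 → IsConj (uOne : SL2) (e.symm a) := fun a ha =>
    sl_two_invol_conj (by rw [← map_mul, ← pow_two, orderOf_dvd_iff_pow_eq_one.1 ha.dvd, map_one]) fun h1 => by
      have := congrArg e h1
      rw [MulEquiv.apply_symm_apply, map_one] at this
      rw [this, orderOf_one] at ha
      omega
  have := (e.toMonoidHom).map_isConj ((h a ha).symm.trans (h b hb))
  simpa using this

theorem psl_two_odd_commute [CharP F 2] {t x : PSL2} (ht : orderOf t = 2) (hc : Commute t x)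
    (hx : ¬ 2 ∣ orderOf x) : x = 1 := by
  obtain ⟨k, hk⟩ := ThreeOrd.psl_even_cit t ht ⟨x, Subgroup.mem_centralizer_singleton_iff.2 hc.eq.symm⟩
  have hk' : x ^ 2 ^ k = 1 := congrArg Subtype.val hk
  exact orderOf_eq_one_iff.1 (Nat.eq_one_of_dvd_coprimes
    (((Nat.Prime.coprime_iff_not_dvd Nat.prime_two).2 hx).pow_left k) (orderOf_dvd_of_pow_eq_one hk') dvd_rfl)

theorem psl_two_classes [CharP F 2] : Fintype.card F + 1 ≤ Nat.card (ConjClasses PSL2) := by
  classical
  let e := MulEquiv.ofBijective _ (mk_bijective (F := F))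
  let w : F → SL2 := fun a => ⟨!![a, 1; 1, 0], by
    rw [Matrix.det_fin_two_of, mul_zero, one_mul, zero_sub, CharTwo.neg_eq]⟩
  have htr : ∀ g h : SL2, IsConj g h → g.1.trace = h.1.trace := by
    intro g h hgh
    obtain ⟨c, rfl⟩ := isConj_iff.1 hgh
    rw [Matrix.SpecialLinearGroup.coe_mul, Matrix.SpecialLinearGroup.coe_mul, Matrix.trace_mul_cycle,
      ← Matrix.SpecialLinearGroup.coe_mul, inv_mul_cancel, Matrix.SpecialLinearGroup.coe_one, one_mul]
  have hw : ∀ a, (w a).1.trace = a := fun a => by simp [w, Matrix.trace_fin_two]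
  have hw1 : ∀ a, ¬ IsConj (1 : SL2) (w a) := by
    intro a h
    have e1 := congrArg (fun g : SL2 => g.1 0 1) (isConj_one_right.1 h)
    simp [w] at e1
  let f : Option F → ConjClasses PSL2 := fun o => ConjClasses.mk (e (o.elim 1 w))
  have hf : Function.Injective f := by
    intro o o' h
    have h' := (e.symm.toMonoidHom).map_isConj (ConjClasses.mk_eq_mk_iff_isConj.1 h)
    simp only [MulEquiv.coe_toMonoidHom, MulEquiv.symm_apply_apply] at h'
    rcases o with _ | a <;> rcases o' with _ | b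
    · rfl
    · exact absurd h' (hw1 b)
    · exact absurd h'.symm (hw1 a)
    · have := htr _ _ h'
      rw [Option.elim_some, Option.elim_some, hw, hw] at this
      rw [this]
  haveI : Finite (ConjClasses PSL2) := Finite.of_surjective ConjClasses.mk ConjClasses.mk_surjective
  have := Nat.card_le_card_of_injective f hf
  rwa [Nat.card_eq_fintype_card, Fintype.card_option] at this

/-- One class of involutions over the fields of the conclusion. -/
theorem psl_good_invol_conj {F : Type} [Field F] [Fintype F] (hF : AbelInv.GoodField F)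
    {a b : Matrix.ProjectiveSpecialLinearGroup (Fin 2) F} (ha : orderOf a = 2) (hb : orderOf b = 2) :
    IsConj a b := by
  rcases hF with ⟨h8, h5⟩ | ⟨n, -, hn⟩
  · by_cases h11 : 11 ≤ Fintype.card F
    · obtain ⟨D⟩ := JanThom.exists_lData h8 h11
      have h : ∀ a : Matrix.ProjectiveSpecialLinearGroup (Fin 2) F, orderOf a = 2 → IsConj D.s a :=
        fun a ha => D.invol a (by rw [← pow_two]; exact orderOf_dvd_iff_pow_eq_one.1 ha.dvd) fun h1 => by
          rw [h1, orderOf_one] at ha; omega
      exact (h a ha).symm.trans (h b hb)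
    · obtain ⟨K, iK, iKF, hK2, -, ⟨e⟩⟩ := ThreeOrd.psl_five_equiv (F := F) (by omega)
      have := (e.symm.toMonoidHom).map_isConj
        (psl_two_invol_conj (a := e a) (b := e b) (by rw [MulEquiv.orderOf_eq, ha])
          (by rw [MulEquiv.orderOf_eq, hb]))
      simpa using this
  · haveI := charTwo_of_card hn
    exact psl_two_invol_conj ha hb

end Cfsg.Agent.ConstDiff
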