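import Cfsg.Agent.Lib.ConstDiff.Basic
import Cfsg.Agent.Lib.ConstDiff.PSL

/-!
Groups in which every non-principal irreducible character has the same difference between degree
and value at an involution.
-/

set_option autoImplicit false
set_option linter.unusedSectionVars false
set_option linter.style.haveILetI false

namespace Cfsg.Agent.ConstDiff

open Cfsg Cfsg.Agent.Char Cfsg.Agent.Blocks
open scoped ComplexConjugate

universe u

variable {G : Type u} [Group G] [Fintype G]

theorem eq_principal_of_trivial (χ : IrrCharacter G) (h : ∀ g, (χ : G → ℂ) g = (χ : G → ℂ) 1) :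
    χ = principal G := by
  by_contra hne
  have h0 := classInner_irr_of_ne χ.2 (principal G).2 (fun e => hne (Subtype.ext e))
  unfold classInner at h0
  simp [principal, h, irr_one_ne_zero χ, Nat.card_eq_fintype_card, Fintype.card_ne_zero] at h0

/-- Counting forces the difference. -/
theorem diff_eq_of_count {t : G} (ht : orderOf t = 2) {q : ℕ}
    (hq : Nat.card ↥(Subgroup.centralizer ({t} : Set G)) = q)
    (hconj : ∀ x ∈ Subgroup.centralizer ({t} : Set G), x ≠ 1 → IsConj t x)
    (hne : ∀ χ : IrrCharacter G, χ ≠ principal G → (χ : G → ℂ) t ≠ (χ : G → ℂ) 1)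
    (hcount : Nat.card G + q ≤ (Nat.card (ConjClasses G) - 1) * q ^ 2) :
    ∀ χ : IrrCharacter G, χ ≠ principal G → (χ : G → ℂ) 1 - (χ : G → ℂ) t = (q : ℂ) := by
  classical
  set C := Subgroup.centralizer ({t} : Set G) with hC
  haveI : Fintype C := Fintype.ofFinite C
  choose n hn hnd using fun χ : IrrCharacter G => char_involution χ ht
  choose c hc using fun χ : IrrCharacter G => exists_sum_subgroup_eq C χ
  set m : IrrCharacter G → ℤ := fun χ => (c χ : ℤ) - n χ with hm
  have hdn : ∀ χ : IrrCharacter G, (charDegree (χ : G → ℂ) : ℤ) - n χ = (q : ℤ) * m χ := by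
    intro χ
    have e := hc χ
    rw [← Finset.add_sum_erase _ _ (Finset.mem_univ (1 : C)),
      Finset.sum_congr rfl (g := fun _ => (n χ : ℂ)) (fun (x : C) hx =>
        (irr_isConj χ (hconj x x.2 fun e => (Finset.mem_erase.1 hx).1 (Subtype.ext e))).trans (hn χ)),
      Finset.sum_const, Finset.card_erase_of_mem (Finset.mem_univ _), Finset.card_univ, nsmul_eq_mul,
      OneMemClass.coe_one, irr_one_eq_charDegree χ, Fintype.card_eq_nat_card, hq,
      Nat.cast_sub (show 1 ≤ q by rw [← hq]; exact Nat.card_pos)] at e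
    push_cast at e
    have e' : (charDegree (χ : G → ℂ) : ℤ) + ((q : ℤ) - 1) * n χ = q * c χ := by exact_mod_cast e
    simp only [hm]
    linarith
  have ht1 : ¬ IsConj (1 : G) t := fun h => by
    rw [isConj_one_right.1 h, orderOf_one] at ht
    omega
  have hsum : ∑ χ : IrrCharacter G, ((charDegree (χ : G → ℂ) : ℤ) - n χ) ^ 2 = (Nat.card G : ℤ) + q := by
    have h1 := column_orth_of_isConj (IsConj.refl t)
    have h2 := column_orth_of_not_isConj ht1
    have h3 := sum_sq_degree (G := G)
    rw [hq] at h1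
    have e : ((∑ χ : IrrCharacter G, ((charDegree (χ : G → ℂ) : ℤ) - n χ) ^ 2 : ℤ) : ℂ) =
        ∑ χ : IrrCharacter G, ((χ : G → ℂ) 1 ^ 2 + (χ : G → ℂ) t * conj ((χ : G → ℂ) t) -
          2 * ((χ : G → ℂ) 1 * conj ((χ : G → ℂ) t))) := by
      push_cast
      exact Finset.sum_congr rfl fun χ _ => by rw [hn, map_intCast, irr_one_eq_charDegree χ]; ring
    rw [Finset.sum_sub_distrib, Finset.sum_add_distrib, ← Finset.mul_sum, h1, h2, h3, mul_zero, sub_zero] at e
    exact_mod_cast e
  have hm1 : ∀ χ : IrrCharacter G, χ ≠ principal G → 1 ≤ m χ := by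
    intro χ hχ
    have hle : n χ ≤ (charDegree (χ : G → ℂ) : ℤ) := by
      have h1 := IsIrrCharacter.norm_le χ.2 (irr_one_eq_charDegree χ) t
      rw [hn, Complex.norm_intCast] at h1
      have h2 : ((n χ : ℤ) : ℝ) ≤ ((charDegree (χ : G → ℂ) : ℕ) : ℝ) := (le_abs_self _).trans h1
      exact_mod_cast h2
    have hlt : n χ ≠ (charDegree (χ : G → ℂ) : ℤ) := fun e => hne χ hχ (by
      rw [hn, e, irr_one_eq_charDegree χ, Int.cast_natCast])
    by_contra hlt'
    push Not at hlt'
    have h2 : (q : ℤ) * m χ ≤ 0 := mul_nonpos_of_nonneg_of_nonpos (Int.natCast_nonneg q) (by omega)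
    have := hdn χ
    omega
  have hq0 : (0 : ℤ) < q := by rw [← hq]; exact_mod_cast Nat.card_pos
  intro χ hχ
  suffices hmχ : m χ = 1 by
    have := hdn χ
    rw [hmχ, mul_one] at this
    rw [hn, irr_one_eq_charDegree χ, ← Int.cast_natCast, ← Int.cast_natCast q, ← this]
    push_cast
    ring
  by_contra hne1
  have h2 : 2 ≤ m χ := by have := hm1 χ hχ; omega
  set T := (Finset.univ : Finset (IrrCharacter G)).erase (principal G) with hT
  have hTcard : T.card + 1 = Nat.card (ConjClasses G) := by
    rw [← card_irrCharacter, hT, Finset.card_erase_add_one (Finset.mem_univ _), Finset.card_univ,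
      Nat.card_eq_fintype_card]
  have hlt : ∑ ψ ∈ T, ((q : ℤ) ^ 2) < ∑ ψ ∈ T, ((charDegree (ψ : G → ℂ) : ℤ) - n ψ) ^ 2 := by
    refine Finset.sum_lt_sum (fun ψ hψ => ?_) ⟨χ, Finset.mem_erase.2 ⟨hχ, Finset.mem_univ _⟩, ?_⟩
    · rw [hdn, mul_pow]
      exact le_mul_of_one_le_right (sq_nonneg _) (one_le_pow₀ (hm1 ψ (Finset.mem_erase.1 hψ).1))
    · rw [hdn, mul_pow]
      exact lt_mul_of_one_lt_right (by positivity) (one_lt_pow₀ (by omega) two_ne_zero)
  rw [Finset.sum_const, nsmul_eq_mul] at hlt
  have hle : ∑ ψ ∈ T, ((charDegree (ψ : G → ℂ) : ℤ) - n ψ) ^ 2 ≤ (Nat.card G : ℤ) + q := by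
    rw [← hsum]
    exact Finset.sum_le_sum_of_subset_of_nonneg (Finset.subset_univ _) fun _ _ _ => sq_nonneg _
  have hc' : (Nat.card G : ℤ) + q ≤ (T.card : ℤ) * (q : ℤ) ^ 2 := by
    rw [← hTcard, Nat.add_sub_cancel] at hcount
    exact_mod_cast hcount
  linarith

theorem card_centralizer_uOne {F : Type} [Field F] [Fintype F] [CharP F 2] :
    Nat.card ↥(Subgroup.centralizer ({(uOne : Matrix.SpecialLinearGroup (Fin 2) F)} : Set _)) = Fintype.card F ∧
      ∀ x ∈ Subgroup.centralizer ({(uOne : Matrix.SpecialLinearGroup (Fin 2) F)} : Set _), x * x = 1 := by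
  classical
  let w : F → Matrix.SpecialLinearGroup (Fin 2) F := fun b => ⟨!![1, b; 0, 1], by simp [Matrix.det_fin_two]⟩
  have hmem : ∀ b, w b ∈ Subgroup.centralizer ({(uOne : Matrix.SpecialLinearGroup (Fin 2) F)} : Set _) := by
    intro b
    rw [Subgroup.mem_centralizer_singleton_iff]
    refine Subtype.ext ?_
    rw [Matrix.SpecialLinearGroup.coe_mul, Matrix.SpecialLinearGroup.coe_mul]
    ext i j
    fin_cases i <;> fin_cases j <;> simp [w, uOne, Matrix.mul_apply, Fin.sum_univ_two, add_comm]
  have hall : ∀ x ∈ Subgroup.centralizer ({(uOne : Matrix.SpecialLinearGroup (Fin 2) F)} : Set _),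
      ∃ b, w b = x := by
    intro x hx
    rw [Subgroup.mem_centralizer_singleton_iff] at hx
    have e : ∀ i j, (x.1 * (uOne : Matrix.SpecialLinearGroup (Fin 2) F).1) i j =
        ((uOne : Matrix.SpecialLinearGroup (Fin 2) F).1 * x.1) i j := fun i j => by
      have := congrArg (fun g : Matrix.SpecialLinearGroup (Fin 2) F => g.1 i j) hx
      simpa using this
    have e00 := e 0 0
    have e01 := e 0 1
    simp [uOne, Matrix.mul_apply, Fin.sum_univ_two] at e00 e01
    have hd : x.1 0 0 * x.1 1 1 - x.1 0 1 * x.1 1 0 = 1 := by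
      rw [← Matrix.det_fin_two]; exact x.det_coe
    have h10 : x.1 1 0 = 0 := e00
    have h11 : x.1 1 1 = x.1 0 0 := by linear_combination -e01
    rw [h10, h11, mul_zero, sub_zero] at hd
    have h00 : x.1 0 0 = 1 := by
      have h0 : (x.1 0 0 + 1) * (x.1 0 0 + 1) = 0 := by
        linear_combination (norm := (ring_nf; reduce_mod_char!)) hd
      exact CharTwo.add_eq_zero.1 (mul_self_eq_zero.1 h0)
    refine ⟨x.1 0 1, Subtype.ext ?_⟩
    ext i j
    fin_cases i <;> fin_cases j <;> simp [w, h10, h11, h00]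
  refine ⟨?_, fun x hx => ?_⟩
  · rw [← Nat.card_eq_fintype_card]
    refine (Nat.card_eq_of_bijective (fun b => (⟨w b, hmem b⟩ :
      Subgroup.centralizer ({(uOne : Matrix.SpecialLinearGroup (Fin 2) F)} : Set _))) ⟨?_, ?_⟩).symm
    · intro b b' h
      have := congrArg (fun g : Subgroup.centralizer ({(uOne : Matrix.SpecialLinearGroup (Fin 2) F)} : Set _) =>
        g.1.1 0 1) h
      simpa [w] using this
    · rintro ⟨x, hx⟩
      obtain ⟨b, rfl⟩ := hall x hx
      exact ⟨b, rfl⟩
  · obtain ⟨b, rfl⟩ := hall x hx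
    refine Subtype.ext ?_
    rw [Matrix.SpecialLinearGroup.coe_mul, Matrix.SpecialLinearGroup.coe_one]
    ext i j
    fin_cases i <;> fin_cases j <;> simp [w, Matrix.mul_apply, Fin.sum_univ_two, CharTwo.add_self_eq_zero]

theorem psl_two_data {F : Type} [Field F] [Fintype F] [CharP F 2] (h4 : 4 ≤ Fintype.card F)
    (e : G ≃* Matrix.ProjectiveSpecialLinearGroup (Fin 2) F) {t : G} (ht : orderOf t = 2) :
    ∀ χ : IrrCharacter G, χ ≠ principal G → (χ : G → ℂ) 1 - (χ : G → ℂ) t = (Fintype.card F : ℂ) := by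
  classical
  let e' : Matrix.SpecialLinearGroup (Fin 2) F ≃* G :=
    (MulEquiv.ofBijective _ (mk_bijective (F := F))).trans e.symm
  have hinv : ∀ g : G, orderOf g = 2 → IsConj (e' uOne) g := by
    intro g hg
    have h1 := (e'.toMonoidHom).map_isConj (sl_two_invol_conj (g := e'.symm g)
      (by rw [← map_mul, ← pow_two, orderOf_dvd_iff_pow_eq_one.1 hg.dvd, map_one])
      fun h1 => by
        have := congrArg e' h1
        rw [MulEquiv.apply_symm_apply, map_one] at this
        rw [this, orderOf_one] at hg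
        omega)
    simpa using h1
  obtain ⟨c, hc⟩ := isConj_iff.1 (hinv t ht)
  let ψ : Matrix.SpecialLinearGroup (Fin 2) F ≃* G := e'.trans (MulAut.conj c)
  have hψ : ψ uOne = t := hc
  have hmem : ∀ x, x ∈ Subgroup.centralizer ({t} : Set G) ↔
      ψ.symm x ∈ Subgroup.centralizer ({(uOne : Matrix.SpecialLinearGroup (Fin 2) F)} : Set _) := by
    intro x
    rw [Subgroup.mem_centralizer_singleton_iff, Subgroup.mem_centralizer_singleton_iff,
      ← ψ.symm.injective.eq_iff, map_mul, map_mul, ← hψ, ψ.symm_apply_apply]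
  have hq : Nat.card ↥(Subgroup.centralizer ({t} : Set G)) = Fintype.card F := by
    rw [← (card_centralizer_uOne (F := F)).1]
    exact Nat.card_congr (ψ.symm.toEquiv.subtypeEquiv hmem)
  refine diff_eq_of_count ht hq (fun x hx hx1 => ?_) (fun χ hχ h => ?_) ?_
  · have h2 := (card_centralizer_uOne (F := F)).2 _ ((hmem x).1 hx)
    rw [← map_mul, ← map_one ψ.symm] at h2
    exact (hinv t ht).symm.trans (hinv x (orderOf_eq_prime (by rw [pow_two]; exact ψ.symm.injective h2) hx1))
  · haveI := Matrix.ProjectiveSpecialLinearGroup.rank_two_simple (F := F)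
      (by rw [Nat.card_eq_fintype_card]; omega)
    haveI : IsSimpleGroup G := e.isSimpleGroup
    obtain ⟨K, hKn, hK, -, -⟩ := Cfsg.Agent.CharX.exists_ker χ
    rcases hKn.eq_bot_or_eq_top with hb | htop
    · have := (hK t).2 h
      rw [hb, Subgroup.mem_bot] at this
      rw [this, orderOf_one] at ht
      omega
    · exact hχ (eq_principal_of_trivial χ fun g => (hK g).1 (htop ▸ Subgroup.mem_top g))
  · have hclass : Fintype.card F + 1 ≤ Nat.card (ConjClasses G) := by
      refine (psl_two_classes (F := F)).trans ?_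
      haveI : Finite (ConjClasses G) := Finite.of_surjective ConjClasses.mk ConjClasses.mk_surjective
      exact Nat.card_le_card_of_surjective _ (ConjClasses.map_surjective (f := e.toMonoidHom) e.surjective)
    have hcard : Nat.card G + Fintype.card F = Fintype.card F ^ 3 := by
      have hc := ProjLine.two_mul_card_psl (F := F)
      rw [Nat.card_eq_fintype_card (α := F), ← Nat.card_congr e.toEquiv] at hc
      obtain ⟨p, hp, hp2⟩ := FiniteField.card F 2
      obtain ⟨j, hj⟩ : ∃ j, Fintype.card F = 2 * j := ⟨2 ^ ((p : ℕ) - 1), by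
        rw [hp2, ← pow_succ', Nat.sub_add_cancel (PNat.pos p)]⟩
      rw [show Nat.gcd 2 (Fintype.card F - 1) = 1 from Nat.coprime_two_left.2 ⟨j - 1, by omega⟩, one_mul] at hc
      have h1 : Nat.card G = Fintype.card F * (Fintype.card F - 1) * (Fintype.card F + 1) :=
        Nat.eq_of_mul_eq_mul_right (show 0 < Fintype.card F - 1 by omega) (hc.trans (by ring))
      rw [h1]
      obtain ⟨q', hq'⟩ : ∃ q', Fintype.card F = q' + 1 := ⟨Fintype.card F - 1, by omega⟩
      rw [hq', Nat.add_sub_cancel]
      ring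
    rw [hcard, pow_succ' (Fintype.card F) 2]
    exact Nat.mul_le_mul_right _ (by omega)

/-- The group of order two. -/
theorem order_two_data (hG : Nat.card G = 2) {t : G} (ht : t ≠ 1) :
    ∀ χ : IrrCharacter G, χ ≠ principal G → (χ : G → ℂ) 1 - (χ : G → ℂ) t = ((2 : ℕ) : ℂ) := by
  classical
  haveI : Fact (Nat.Prime 2) := ⟨Nat.prime_two⟩
  have htwo : ∀ x : G, x ≠ 1 → x = t := by
    intro x hx
    by_contra hxt
    have := Finset.card_le_univ ({1, t, x} : Finset G)
    rw [Finset.card_eq_three.2 ⟨1, t, x, ht.symm, fun e => hx e.symm, fun e => hxt e.symm, rfl⟩,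
      ← Nat.card_eq_fintype_card, hG] at this
    omega
  have ho : orderOf t = 2 := orderOf_eq_prime (by rw [← hG]; exact pow_card_eq_one') ht
  have hcomm : ∀ x y : G, x * y = y * x := by
    intro x y
    by_cases hx : x = 1
    · simp [hx]
    by_cases hy : y = 1
    · simp [hy]
    rw [htwo x hx, htwo y hy]
  refine diff_eq_of_count ho ?_ (fun x _ hx => by rw [htwo x hx]) (fun χ hχ h => ?_) ?_
  · rw [show Subgroup.centralizer ({t} : Set G) = ⊤ from
      eq_top_iff.2 fun x _ => Subgroup.mem_centralizer_singleton_iff.2 (hcomm x t), Subgroup.card_top, hG]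
  · refine hχ (eq_principal_of_trivial χ fun g => ?_)
    by_cases hg : g = 1
    · rw [hg]
    · rw [htwo g hg, h]
  · have hinj : Function.Injective (ConjClasses.mk : G → ConjClasses G) := fun x y h => by
      obtain ⟨c, hc⟩ := isConj_iff.1 (ConjClasses.mk_eq_mk_iff_isConj.1 h)
      rwa [hcomm c x, mul_inv_cancel_right] at hc
    haveI : Finite (ConjClasses G) := Finite.of_surjective ConjClasses.mk ConjClasses.mk_surjective
    have := Nat.card_le_card_of_injective _ hinj
    rw [hG] at this ⊢
    refine le_trans ?_ (Nat.mul_le_mul_right _ (show 1 ≤ Nat.card (ConjClasses G) - 1 by omega))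
    norm_num

end Cfsg.Agent.ConstDiff
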