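import Cfsg.Agent.Lib.Blocks.KleinPrincipal
import Cfsg.Agent.Lib.Blocks.RegularSum
import Cfsg.Agent.S0205
import Mathlib.GroupTheory.Transfer

/-!
The principal 2-block of an insoluble group with a self-centralising Klein four Sylow subgroup.
-/

set_option autoImplicit false
set_option linter.unusedSectionVars false
set_option linter.style.haveILetI false

namespace Cfsg.Agent.ConstDiff

open Cfsg Subgroup Cfsg.Agent.Blocks Cfsg.Agent.Char

universe u

variable {C : Type u} [Group C]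

/-- An element permuting the involutions of a Klein four group without fixed points is transitive. -/
theorem klein_orbit (T : Subgroup C) (hT : Nat.card T = 4) (g : C) (hg : g ∈ normalizer (T : Set C))
    (hfix : ∀ s ∈ T, g * s * g⁻¹ = s → s = 1) {s : C} (hs : s ∈ T) (hs1 : s ≠ 1) {v : C} (hv : v ∈ T)
    (hv1 : v ≠ 1) : v = s ∨ v = g * s * g⁻¹ ∨ v = g * (g * s * g⁻¹) * g⁻¹ := by
  classical
  haveI : Finite T := Nat.finite_of_card_ne_zero (by rw [hT]; norm_num)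
  haveI : Fintype T := Fintype.ofFinite T
  by_contra hne
  push Not at hne
  obtain ⟨hv_s, hv_a, hv_b⟩ := hne
  have hmem : ∀ w ∈ T, g * w * g⁻¹ ∈ T := fun w hw => (mem_normalizer_iff.1 hg w).1 hw
  have hne1 : ∀ w : C, w ≠ 1 → g * w * g⁻¹ ≠ 1 := fun w hw e => hw (conj_eq_one_iff.1 e)
  have hinj : ∀ x y : C, g * x * g⁻¹ = g * y * g⁻¹ → x = y := fun x y e =>
    mul_left_cancel (mul_right_cancel e)
  set a := g * s * g⁻¹ with ha
  set b := g * a * g⁻¹ with hb
  have has : a ≠ s := fun e => hs1 (hfix s hs e)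
  have hba : b ≠ a := fun e => hne1 s hs1 (hfix a (hmem s hs) e)
  have hvfix : g * v * g⁻¹ ≠ v := fun e => hv1 (hfix v hv e)
  have hn5 : ∀ (w₁ w₂ w₃ w₄ : C), w₁ ∈ T → w₂ ∈ T → w₃ ∈ T → w₄ ∈ T → w₁ ≠ 1 → w₂ ≠ 1 → w₃ ≠ 1 → w₄ ≠ 1 →
      w₁ ≠ w₂ → w₁ ≠ w₃ → w₁ ≠ w₄ → w₂ ≠ w₃ → w₂ ≠ w₄ → w₃ ≠ w₄ → False := by
    intro w₁ w₂ w₃ w₄ m₁ m₂ m₃ m₄ n₁ n₂ n₃ n₄ d12 d13 d14 d23 d24 d34
    have h5 : ({⟨1, one_mem T⟩, ⟨w₁, m₁⟩, ⟨w₂, m₂⟩, ⟨w₃, m₃⟩, ⟨w₄, m₄⟩} : Finset T).card = 5 := by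
      simp [Finset.card_insert_of_notMem, Subtype.ext_iff, Ne.symm n₁, Ne.symm n₂, Ne.symm n₃, Ne.symm n₄,
        d12, d13, d14, d23, d24, d34]
    have h := Finset.card_le_univ ({⟨1, one_mem T⟩, ⟨w₁, m₁⟩, ⟨w₂, m₂⟩, ⟨w₃, m₃⟩, ⟨w₄, m₄⟩} : Finset T)
    rw [h5, ← Nat.card_eq_fintype_card, hT] at h
    omega
  by_cases hbs : b = s
  · refine hn5 v (g * v * g⁻¹) s a hv (hmem v hv) hs (hmem s hs) hv1 (hne1 v hv1) hs1 (hne1 s hs1)
      hvfix.symm hv_s hv_a (fun e => hv_a ?_) (fun e => hv_s (hinj _ _ (e.trans ha))) has.symm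
    exact hinj _ _ (e.trans (hbs.symm.trans hb))
  · exact hn5 v s a b hv hs (hmem s hs) (hmem a (hmem s hs)) hv1 hs1 (hne1 s hs1)
      (hne1 a (hne1 s hs1)) hv_s hv_a hv_b has.symm (Ne.symm hbs) hba.symm

variable [Fintype C] {M : Ideal AlgInt} [M.IsPrime]

/-- The normaliser of the Sylow subgroup. -/
theorem klein_normalizer (T : Sylow 2 C) (hT : Nat.card (T : Subgroup C) = 4)
    (hcT : centralizer ((T : Subgroup C) : Set C) ≤ (T : Subgroup C)) (g : C)
    (hg : g ∈ normalizer ((T : Subgroup C) : Set C))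
    (hfix : ∀ s ∈ (T : Subgroup C), g * s * g⁻¹ = s → s = 1) {x : C}
    (hxN : x ∈ normalizer ((T : Subgroup C) : Set C)) :
    ∃ j : ℕ, j < 3 ∧ (g ^ j)⁻¹ * x ∈ (T : Subgroup C) := by
  classical
  haveI : Fact (Nat.Prime 2) := ⟨Nat.prime_two⟩
  obtain ⟨s, hs, hs1⟩ := (Subgroup.bot_or_exists_ne_one (T : Subgroup C)).resolve_left fun e => by
    rw [e, card_bot] at hT; omega
  obtain ⟨j, hj3, hj⟩ : ∃ j : ℕ, j < 3 ∧ x * s * x⁻¹ = g ^ j * s * (g ^ j)⁻¹ := by
    rcases klein_orbit (T : Subgroup C) hT g hg hfix hs hs1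
      ((mem_normalizer_iff.1 hxN s).1 hs) (fun e => hs1 (conj_eq_one_iff.1 e)) with h | h | h
    · exact ⟨0, by norm_num, by simpa using h⟩
    · exact ⟨1, by norm_num, by simpa using h⟩
    · exact ⟨2, by norm_num, by rw [h, pow_two]; group⟩
  refine ⟨j, hj3, ?_⟩
  set y := (g ^ j)⁻¹ * x with hy
  have hyN : y ∈ normalizer ((T : Subgroup C) : Set C) := mul_mem (inv_mem (pow_mem hg j)) hxN
  have hys : y * s * y⁻¹ = s := by
    rw [hy, show (g ^ j)⁻¹ * x * s * ((g ^ j)⁻¹ * x)⁻¹ = (g ^ j)⁻¹ * (x * s * x⁻¹) * g ^ j by group, hj]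
    group
  have hy2 : y * y ∈ centralizer ((T : Subgroup C) : Set C) := by
    refine mem_centralizer_iff.2 fun w hw => ?_
    have hcm : y * y * w * (y * y)⁻¹ = w := by
      by_cases hw1 : w = 1
      · rw [hw1, mul_one, mul_inv_cancel]
      by_cases hws : w = s
      · rw [hws, show y * y * s * (y * y)⁻¹ = y * (y * s * y⁻¹) * y⁻¹ by group, hys, hys]
      by_contra hne
      set w' := y * w * y⁻¹ with hw'
      have hw'm : w' ∈ (T : Subgroup C) := (mem_normalizer_iff.1 hyN w).1 hw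
      set w'' := y * w' * y⁻¹ with hw''
      have hw''m : w'' ∈ (T : Subgroup C) := (mem_normalizer_iff.1 hyN w').1 hw'm
      have e2 : y * y * w * (y * y)⁻¹ = w'' := by rw [hw'', hw']; group
      rw [e2] at hne
      have inj : ∀ a b : C, y * a * y⁻¹ = y * b * y⁻¹ → a = b := fun a b e =>
        mul_left_cancel (mul_right_cancel e)
      haveI : Fintype (T : Subgroup C) := Fintype.ofFinite _
      have a1 : w' ≠ 1 := fun e => hw1 (conj_eq_one_iff.1 e)
      have a2 : w'' ≠ 1 := fun e => a1 (conj_eq_one_iff.1 e)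
      have b1 : w' ≠ s := fun e => hws (inj _ _ (e.trans hys.symm))
      have b2 : w'' ≠ s := fun e => b1 (inj _ _ (e.trans hys.symm))
      have b3 : w' ≠ w'' := fun e => by
        have := inj _ _ (hw'.symm.trans (e.trans hw''))
        exact hne (e.symm.trans this.symm)
      have b4 : w' ≠ w := fun e => hne (by rw [hw'', e, ← hw', e])
      have h5 : ({⟨1, one_mem _⟩, ⟨s, hs⟩, ⟨w, hw⟩, ⟨w', hw'm⟩, ⟨w'', hw''m⟩} :
          Finset (T : Subgroup C)).card = 5 := by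
        simp [Finset.card_insert_of_notMem, Subtype.ext_iff, Ne.symm hs1, Ne.symm hw1, Ne.symm a1,
          Ne.symm a2, Ne.symm hws, Ne.symm b1, Ne.symm b2, Ne.symm b4, Ne.symm hne, b3]
      have h := Finset.card_le_univ ({⟨1, one_mem _⟩, ⟨s, hs⟩, ⟨w, hw⟩, ⟨w', hw'm⟩, ⟨w'', hw''m⟩} :
          Finset (T : Subgroup C))
      rw [h5, ← Nat.card_eq_fintype_card, hT] at h
      omega
    rw [mul_inv_eq_iff_eq_mul] at hcm
    exact hcm.symm
  obtain ⟨i, hi⟩ := IsPGroup.iff_orderOf.1 T.isPGroup' ⟨y * y, hcT hy2⟩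
  rw [Subgroup.orderOf_mk] at hi
  have hd : orderOf y ∣ 2 ^ (i + 1) := orderOf_dvd_of_pow_eq_one (by
    rw [pow_succ', pow_mul, pow_two, ← hi, pow_orderOf_eq_one])
  obtain ⟨l, -, hl⟩ := (Nat.dvd_prime_pow Nat.prime_two).1 hd
  have h4 : IsPGroup 2 (zpowers y) := IsPGroup.of_card (n := l) (by rw [Nat.card_zpowers, hl])
  have hsup := h4.to_sup_of_normal_right' T.isPGroup' (zpowers_le.2 hyN)
  rw [← T.is_maximal' hsup le_sup_right]
  exact mem_sup_left (mem_zpowers y)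

/-- A normal subgroup containing the Sylow subgroup is everything. -/
theorem klein_normal_top (T : Sylow 2 C) (hT : Nat.card (T : Subgroup C) = 4)
    (hcT : centralizer ((T : Subgroup C) : Set C) ≤ (T : Subgroup C)) (g : C)
    (hg : g ∈ normalizer ((T : Subgroup C) : Set C))
    (hfix : ∀ s ∈ (T : Subgroup C), g * s * g⁻¹ = s → s = 1) (hns : ¬ Group.IsSolvable C)
    (R : Subgroup C) [R.Normal] (hTR : (T : Subgroup C) ≤ R) : R = ⊤ := by
  classical
  haveI : Fact (Nat.Prime 2) := ⟨Nat.prime_two⟩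
  by_cases hgR : g ∈ R
  · refine top_le_iff.1 (le_of_eq_of_le (Sylow.normalizer_sup_eq_top' T hTR).symm (sup_le ?_ le_rfl))
    intro x hx
    obtain ⟨j, -, hj⟩ := klein_normalizer T hT hcT g hg hfix hx
    rw [show x = g ^ j * ((g ^ j)⁻¹ * x) by group]
    exact mul_mem (pow_mem hgR j) (hTR hj)
  exfalso
  have hoQ : Odd (Nat.card (C ⧸ R)) := by
    rw [← Subgroup.index_eq_card]
    exact Nat.not_even_iff_odd.1 fun he => T.not_dvd_index (he.two_dvd.trans (Subgroup.index_dvd_of_le hTR))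
  have hg2 : g ^ 2 ∉ R := by
    intro h2
    refine hgR ((QuotientGroup.eq_one_iff g).1 (orderOf_eq_one_iff.1 ?_))
    exact Nat.eq_one_of_dvd_coprimes (Nat.coprime_two_left.2 hoQ)
      (orderOf_dvd_of_pow_eq_one (by rw [← QuotientGroup.mk_pow]; exact (QuotientGroup.eq_one_iff _).2 h2))
      (orderOf_dvd_natCard _)
  have hTcomm : ∀ x ∈ (T : Subgroup C), ∀ y ∈ (T : Subgroup C), x * y = y * x := by
    haveI : IsMulCommutative (T : Subgroup C) :=
      IsPGroup.isMulCommutative_of_card_eq_prime_sq (p := 2) (by rw [hT]; norm_num)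
    exact fun x hx y hy => congrArg Subtype.val
      (mul_comm' (⟨x, hx⟩ : (T : Subgroup C)) ⟨y, hy⟩)
  let T' : Sylow 2 R := T.subtype hTR
  have hNC : normalizer ((T' : Subgroup R) : Set R) ≤ centralizer ((T' : Subgroup R) : Set R) := by
    intro x hx
    have hxN : (x : C) ∈ normalizer ((T : Subgroup C) : Set C) := by
      refine mem_normalizer_fintype fun w hw => ?_
      exact (mem_normalizer_iff.1 hx ⟨w, hTR hw⟩).1 (by exact hw)
    have hxT : (x : C) ∈ (T : Subgroup C) := by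
      obtain ⟨j, hj3, hj⟩ := klein_normalizer T hT hcT g hg hfix hxN
      have hgj : g ^ j ∈ R := by
        rw [show g ^ j = (x : C) * ((g ^ j)⁻¹ * x)⁻¹ by group]
        exact mul_mem x.2 (inv_mem (hTR hj))
      obtain rfl | rfl | rfl : j = 0 ∨ j = 1 ∨ j = 2 := by omega
      · simpa using hj
      · exact absurd (by simpa using hgj) hgR
      · exact absurd hgj hg2
    exact mem_centralizer_iff.2 fun w hw => Subtype.ext (hTcomm w (by exact hw) x hxT)
  have hcompl := MonoidHom.ker_transferSylow_isComplement' T' hNC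
  haveI : Group.IsSolvable (MonoidHom.transferSylow T' hNC).ker := S0205.result (Nat.not_even_iff_odd.1 fun he => by
    have h := he.two_dvd
    rw [← hcompl.index_eq_card] at h
    exact T'.not_dvd_index h)
  haveI : Group.IsSolvable (T' : Subgroup R) := Group.isSolvable_of_comm fun a b =>
    Subtype.ext (Subtype.ext (hTcomm _ (by exact a.2) _ (by exact b.2)))
  haveI : Group.IsSolvable R := Group.isSolvable_of_ker_le_range (MonoidHom.transferSylow T' hNC).ker.subtype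
    (MonoidHom.transferSylow T' hNC) (by rw [range_subtype])
  haveI : Group.IsSolvable (C ⧸ R) := S0205.result hoQ
  exact hns (Group.isSolvable_of_ker_le_range R.subtype (QuotientGroup.mk' R)
    (by rw [QuotientGroup.ker_mk', range_subtype]))

theorem klein_degree_bound {a b c : ℕ} {e f h : ℤ} (he : e = 1 ∨ e = -1) (hf : f = 1 ∨ f = -1)
    (hh : h = 1 ∨ h = -1) (hm1 : (4 : ℤ) ∣ (a : ℤ) - e) (hm2 : (4 : ℤ) ∣ (b : ℤ) - f)
    (hm3 : (4 : ℤ) ∣ (c : ℤ) - h) (hrel : 1 + e * (a : ℤ) + f * (b : ℤ) + h * (c : ℤ) = 0)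
    (n1 : a ≠ 1) (n2 : b ≠ 1) (n3 : c ≠ 1) : 44 ≤ 1 * 1 + a * a + b * b + c * c := by
  have ha : 3 ≤ a := by rcases he with rfl | rfl <;> omega
  have hb : 3 ≤ b := by rcases hf with rfl | rfl <;> omega
  have hc : 3 ≤ c := by rcases hh with rfl | rfl <;> omega
  have h5 : 5 ≤ a ∨ 5 ≤ b ∨ 5 ≤ c := by
    rcases he with rfl | rfl <;> rcases hf with rfl | rfl <;> rcases hh with rfl | rfl <;> omega
  have := Nat.mul_le_mul ha ha
  have := Nat.mul_le_mul hb hb
  have := Nat.mul_le_mul hc hc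
  rcases h5 with h | h | h <;> (have := Nat.mul_le_mul h h; omega)

/-- The sum of the squares of the degrees in the principal block. -/
theorem klein_block_bound (hM : IsPModular 2 M) (T : Sylow 2 C) (hT : Nat.card (T : Subgroup C) = 4)
    (hcT : centralizer ((T : Subgroup C) : Set C) ≤ (T : Subgroup C)) (g : C)
    (hg : g ∈ normalizer ((T : Subgroup C) : Set C))
    (hfix : ∀ s ∈ (T : Subgroup C), g * s * g⁻¹ = s → s = 1) (hns : ¬ Group.IsSolvable C)
    (hsq : ∀ s ∈ (T : Subgroup C), s * s = 1) [DecidablePred (· ∈ principalBlock M C)] :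
    44 ≤ ∑ θ ∈ Finset.univ.filter (· ∈ principalBlock M C),
      charDegree (θ : C → ℂ) * charDegree (θ : C → ℂ) := by
  classical
  haveI : Fact (Nat.Prime 2) := ⟨Nat.prime_two⟩
  have hone : ∀ s t : C, orderOf s = 2 → orderOf t = 2 → IsConj s t := by
    have key : ∀ s : C, orderOf s = 2 → ∃ w ∈ (T : Subgroup C), w ≠ 1 ∧ IsConj s w := by
      intro s hs
      obtain ⟨R, hR⟩ := (IsPGroup.of_card (n := 1) (p := 2) (by rw [Nat.card_zpowers, hs, pow_one]) :
        IsPGroup 2 (zpowers s)).exists_le_sylow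
      obtain ⟨c, hc⟩ := MulAction.exists_smul_eq C R T
      refine ⟨c * s * c⁻¹, ?_, fun e => ?_, isConj_iff.2 ⟨c, rfl⟩⟩
      · rw [← hc, Sylow.coe_subgroup_smul]
        exact ⟨s, hR (mem_zpowers s), rfl⟩
      · rw [conj_eq_one_iff] at e; rw [e, orderOf_one] at hs; omega
    intro s t hs ht
    obtain ⟨a, ha, ha1, hsa⟩ := key s hs
    obtain ⟨b, hb, hb1, htb⟩ := key t ht
    refine hsa.trans (IsConj.trans ?_ htb.symm)
    rcases klein_orbit (T : Subgroup C) hT g hg hfix ha ha1 hb hb1 with h | h | h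
    · rw [h]
    · exact isConj_iff.2 ⟨g, h.symm⟩
    · exact isConj_iff.2 ⟨g * g, by rw [h]; group⟩
  have hS : KleinBlock.Setup C := KleinBlock.Setup.of_sylow T hT (fun s => Subtype.ext (hsq s s.2)) hone
  obtain ⟨J, hJ⟩ := KleinBlock.exists_invol hS
  obtain ⟨χ₁, χ₂, χ₃, hd, hB, ε₁, ε₂, ε₃, hε, hv⟩ := KleinBlock.exists_three hM hS
  have hval := hv J hJ
  obtain ⟨hm1, hm2, hm3⟩ := KleinBlock.mod_four hM hS χ₁ χ₂ χ₃ ε₁ ε₂ ε₃ hJ hB hd hval
  have hrel := KleinBlock.degree_relation hM hS χ₁ χ₂ χ₃ ε₁ ε₂ ε₃ hJ hB hd hval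
  have hsum : ∑ θ ∈ Finset.univ.filter (· ∈ principalBlock M C),
      charDegree (θ : C → ℂ) * charDegree (θ : C → ℂ) =
      charDegree ((principal C : IrrCharacter C) : C → ℂ) * charDegree ((principal C : IrrCharacter C) : C → ℂ) +
        charDegree (χ₁ : C → ℂ) * charDegree (χ₁ : C → ℂ) + charDegree (χ₂ : C → ℂ) * charDegree (χ₂ : C → ℂ) +
        charDegree (χ₃ : C → ℂ) * charDegree (χ₃ : C → ℂ) := by
    have h := KleinBlock.four_sum hM hS χ₁ χ₂ χ₃ ε₁ ε₂ ε₃ hJ hB hd hval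
      (fun θ => ((charDegree (θ : C → ℂ) * charDegree (θ : C → ℂ) : ℕ) : ℂ))
    exact_mod_cast h
  rw [hsum]
  -- no linear character but the principal one
  have hlin : ∀ χ ∈ principalBlock M C, (χ : C → ℂ) ≠ (fun _ => 1) → ∀ ε : ℤ, (ε = 1 ∨ ε = -1) →
      (χ : C → ℂ) J = ε → (4 : ℤ) ∣ (charDegree (χ : C → ℂ) : ℤ) - ε → charDegree (χ : C → ℂ) ≠ 1 := by
    intro χ hχ hne ε hε hJv h4 hd1
    have hε1 : ε = 1 := by
      rw [hd1] at h4
      rcases hε with e | e
      · exact e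
      · rw [e] at h4; norm_num at h4
    obtain ⟨R, hRn, hR, -, -⟩ := Cfsg.Agent.CharX.exists_ker χ
    haveI := hRn
    have h1 : (χ : C → ℂ) 1 = 1 := by rw [irr_one_eq_charDegree, hd1, Nat.cast_one]
    have hJR : J ∈ R := (hR J).2 (by rw [hJv, hε1, h1, Int.cast_one])
    have hTR : (T : Subgroup C) ≤ R := by
      intro s hs
      by_cases hs1 : s = 1
      · rw [hs1]; exact R.one_mem
      · obtain ⟨c, rfl⟩ := isConj_iff.1 (hone J s hJ (orderOf_eq_prime (by rw [pow_two]; exact hsq s hs) hs1))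
        exact hRn.conj_mem J hJR c
    have htop := klein_normal_top T hT hcT g hg hfix hns R hTR
    refine hne (funext fun x => ?_)
    rw [(hR x).1 (htop ▸ mem_top x), h1]
  have m1 : χ₁ ∈ principalBlock M C := by rw [hB]; exact Or.inr (Or.inl rfl)
  have m2 : χ₂ ∈ principalBlock M C := by rw [hB]; exact Or.inr (Or.inr (Or.inl rfl))
  have m3 : χ₃ ∈ principalBlock M C := by rw [hB]; exact Or.inr (Or.inr (Or.inr rfl))
  have n1 := hlin χ₁ m1 hd.1 ε₁ hε.1 hval.1 hm1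
  have n2 := hlin χ₂ m2 hd.2.1 ε₂ hε.2.1 hval.2.1 hm2
  have n3 := hlin χ₃ m3 hd.2.2.1 ε₃ hε.2.2 hval.2.2 hm3
  have p1 := charDegree_pos χ₁
  have p2 := charDegree_pos χ₂
  have p3 := charDegree_pos χ₃
  have hp : charDegree ((principal C : IrrCharacter C) : C → ℂ) = 1 := by simp [principal, charDegree]
  rw [hp]
  exact klein_degree_bound hε.1 hε.2.1 hε.2.2 hm1 hm2 hm3 hrel n1 n2 n3

end Cfsg.Agent.ConstDiff
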