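import Cfsg.Agent.Lib.ConstDiff.Chars
import Cfsg.Agent.Lib.ConstDiff.Klein
import Cfsg.Agent.Lib.Blocks.Quotient

/-!
Counting excludes a Sylow subgroup of order eight with an insoluble involution centraliser.
-/

set_option autoImplicit false
set_option linter.unusedSectionVars false
set_option linter.style.haveILetI false

namespace Cfsg.Agent.ConstDiff

open Cfsg Subgroup Cfsg.Agent.Blocks Cfsg.Agent.Char
open scoped ComplexConjugate

universe u

variable {G : Type u} [Group G] [Fintype G] {M : Ideal AlgInt} [M.IsPrime]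
variable {u t : G} {k : ℂ}

/-- A central involution acts by a sign. -/
theorem central_sign {C : Type u} [Group C] [Fintype C] (θ : IrrCharacter C) {z : C}
    (hz : ∀ x, z * x = x * z) (hz2 : z * z = 1) :
    ∃ e : ℤ, (e = 1 ∨ e = -1) ∧ (θ : C → ℂ) z = (e : ℂ) * (θ : C → ℂ) 1 ∧
      ∀ c, (θ : C → ℂ) (z * c) = (e : ℂ) * (θ : C → ℂ) c := by
  have key : ∀ c, (θ : C → ℂ) z * (θ : C → ℂ) c = (θ : C → ℂ) 1 * (θ : C → ℂ) (z * c) := fun c =>
    irr_mul_of_const θ z c fun x y hx hy => by
      obtain ⟨a, rfl⟩ := isConj_iff.1 hx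
      obtain ⟨b, rfl⟩ := isConj_iff.1 hy
      rw [← hz a, mul_inv_cancel_right, ← irr_conj_invariant θ (z * c) b,
        show b * (z * c) * b⁻¹ = b * z * (c * b⁻¹) by group, ← hz b]
      simp [mul_assoc]
  have h1 := irr_one_ne_zero θ
  have h2 := key z
  rw [hz2] at h2
  rcases mul_self_eq_mul_self_iff.1 h2 with h | h
  · refine ⟨1, Or.inl rfl, by simpa using h, fun c => ?_⟩
    have := key c
    rw [h] at this
    rw [Int.cast_one, one_mul]
    exact (mul_left_cancel₀ h1 this).symm
  · refine ⟨-1, Or.inr rfl, by simpa using h, fun c => ?_⟩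
    have := key c
    rw [h, neg_mul, ← mul_neg] at this
    rw [Int.cast_neg, Int.cast_one, neg_one_mul]
    exact (mul_left_cancel₀ h1 this).symm

/-- The block of the centraliser of the involution is large. -/
theorem centraliser_bound (hM : IsPModular 2 M) (P : Sylow 2 G) (hP8 : Nat.card (P : Subgroup G) = 8)
    (hsq : ∀ p ∈ (P : Subgroup G), p * p = 1)
    (hcP : centralizer ((P : Subgroup G) : Set G) ≤ (P : Subgroup G)) {a : G}
    (haP : a ∈ (P : Subgroup G)) (ha1 : a ≠ 1)
    (hns : ¬ Group.IsSolvable ↥(centralizer ({a} : Set G))) {g : G}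
    (hgN : g ∈ normalizer ((P : Subgroup G) : Set G)) (hga : g * a * g⁻¹ = a)
    (hfix : ∀ p ∈ (P : Subgroup G), g * p * g⁻¹ = p → p = 1 ∨ p = a) {r : ℕ} (hr : Odd r)
    (hgr : ∀ p ∈ (P : Subgroup G), g ^ r * p * (g ^ r)⁻¹ = p) :
    ∃ N : ℕ, 88 ≤ N ∧ blockPair (principalBlock M G) a a = (N : ℂ) := by
  classical
  haveI : Fact (Nat.Prime 2) := ⟨Nat.prime_two⟩
  have hinv : ∀ p ∈ (P : Subgroup G), p⁻¹ = p := fun p hp => inv_eq_of_mul_eq_one_right (hsq p hp)
  have hcomm : ∀ p ∈ (P : Subgroup G), ∀ q ∈ (P : Subgroup G), p * q = q * p := by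
    intro p hp q hq
    rw [← hinv _ (mul_mem hp hq), mul_inv_rev, hinv p hp, hinv q hq]
  have haa : a * a = 1 := hsq a haP
  have ha2 : orderOf a = 2 := orderOf_eq_prime (by rw [pow_two]; exact haa) ha1
  set C := centralizer ({a} : Set G) with hC
  haveI : Fintype C := Fintype.ofFinite C
  have hPC : (P : Subgroup G) ≤ C := fun p hp => mem_centralizer_singleton_iff.2 (hcomm p hp a haP)
  have hgC : g ∈ C := mem_centralizer_singleton_iff.2 (mul_inv_eq_iff_eq_mul.1 hga)
  set z : C := ⟨a, hPC haP⟩ with hz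
  have hzc : ∀ x : C, z * x = x * z := fun x => Subtype.ext (mem_centralizer_singleton_iff.1 x.2).symm
  have hz2 : z * z = 1 := Subtype.ext haa
  set Z : Subgroup C :=
    { carrier := {x | x = 1 ∨ x = z}
      one_mem' := Or.inl rfl
      mul_mem' := fun {x y} hx hy => by
        rcases hx with rfl | rfl <;> rcases hy with rfl | rfl <;> simp [hz2]
      inv_mem' := fun {x} hx => by
        rcases hx with rfl | rfl
        · exact Or.inl inv_one
        · exact Or.inr (inv_eq_of_mul_eq_one_right hz2) } with hZ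
  haveI : Z.Normal := ⟨fun x hx c => by
    rcases hx with rfl | rfl
    · rw [mul_one, mul_inv_cancel]; exact one_mem _
    · rw [← hzc c, mul_inv_cancel_right]; exact Or.inr rfl⟩
  haveI : Fintype (C ⧸ Z) := Fintype.ofFinite _
  let S : Sylow 2 C := P.subtype hPC
  let T : Sylow 2 (C ⧸ Z) := S.mapSurjective (QuotientGroup.mk'_surjective Z)
  have hTmem : ∀ q : C ⧸ Z, q ∈ (T : Subgroup (C ⧸ Z)) ↔ ∃ p : C, (p : G) ∈ (P : Subgroup G) ∧ (p : C ⧸ Z) = q :=
    fun q => ⟨fun ⟨p, hp, e⟩ => ⟨p, hp, e⟩, fun ⟨p, hp, e⟩ => ⟨p, hp, e⟩⟩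
  have hmod : ∀ x y : C, (x : C ⧸ Z) = (y : C ⧸ Z) → (x : G) = y ∨ (x : G) * a = y := by
    intro x y e
    rcases QuotientGroup.eq.1 e with h | h
    · exact Or.inl (congrArg Subtype.val (inv_mul_eq_one.1 h))
    · refine Or.inr ?_
      have h' : (x : G)⁻¹ * y = a := congrArg Subtype.val h
      rw [← h']; group
  have hT4 : Nat.card (T : Subgroup (C ⧸ Z)) = 4 := by
    have h1 := ((QuotientGroup.mk' Z).comp (S : Subgroup C).subtype).ker.card_mul_index
    rw [index_ker, MonoidHom.range_comp, range_subtype] at h1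
    have h2 : Nat.card ((QuotientGroup.mk' Z).comp (S : Subgroup C).subtype).ker = 2 := by
      rw [Nat.card_eq_two_iff]
      have hzS : z ∈ (S : Subgroup C) := haP
      refine ⟨1, ⟨⟨z, hzS⟩, (QuotientGroup.eq_one_iff z).2 (Or.inr rfl)⟩, fun e => ?_, ?_⟩
      · exact ha1 (congrArg (fun w : ((QuotientGroup.mk' Z).comp (S : Subgroup C).subtype).ker =>
          (((w : (S : Subgroup C)) : C) : G)) e).symm
      · rw [Set.eq_univ_iff_forall]
        rintro ⟨⟨w, hw⟩, hwk⟩
        rcases (QuotientGroup.eq_one_iff w).1 hwk with rfl | rfl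
        · exact Or.inl rfl
        · exact Or.inr rfl
    rw [h2, show Nat.card (S : Subgroup C) = 8 from (Nat.card_congr (subgroupOfEquivOfLe hPC).toEquiv).trans hP8] at h1
    have : Nat.card (T : Subgroup (C ⧸ Z)) = Nat.card ((S : Subgroup C).map (QuotientGroup.mk' Z)) := rfl
    omega
  have hTsq : ∀ s ∈ (T : Subgroup (C ⧸ Z)), s * s = 1 := by
    intro s hs
    obtain ⟨p, hp, rfl⟩ := (hTmem s).1 hs
    rw [← QuotientGroup.mk_mul, show p * p = 1 from Subtype.ext (hsq _ hp), QuotientGroup.mk_one]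
  set gb : C ⧸ Z := ((⟨g, hgC⟩ : C) : C ⧸ Z) with hgb
  have hgbN : gb ∈ normalizer ((T : Subgroup (C ⧸ Z)) : Set (C ⧸ Z)) := by
    refine mem_normalizer_fintype fun s hs => ?_
    obtain ⟨p, hp, rfl⟩ := (hTmem s).1 hs
    rw [hgb, ← QuotientGroup.mk_inv, ← QuotientGroup.mk_mul, ← QuotientGroup.mk_mul]
    exact (hTmem _).2 ⟨_, (mem_normalizer_iff.1 hgN (p : G)).1 hp, rfl⟩
  have hgbfix : ∀ s ∈ (T : Subgroup (C ⧸ Z)), gb * s * gb⁻¹ = s → s = 1 := by
    intro s hs e
    obtain ⟨p, hp, rfl⟩ := (hTmem s).1 hs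
    rw [hgb, ← QuotientGroup.mk_inv, ← QuotientGroup.mk_mul, ← QuotientGroup.mk_mul] at e
    have e' : g * (p : G) * g⁻¹ = p ∨ g * (p : G) * g⁻¹ = (p : G) * a := by
      rcases hmod _ _ e with h | h
      · exact Or.inl h
      · refine Or.inr ?_
        have h' : g * (p : G) * g⁻¹ * a = p := h
        calc g * (p : G) * g⁻¹ = g * (p : G) * g⁻¹ * a * a := by rw [mul_assoc (g * (p : G) * g⁻¹), haa, mul_one]
          _ = (p : G) * a := by rw [h']
    rcases e' with e' | e'
    · rcases hfix _ hp e' with h | h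
      · rw [QuotientGroup.eq_one_iff]; exact Or.inl (Subtype.ext h)
      · rw [QuotientGroup.eq_one_iff]; exact Or.inr (Subtype.ext h)
    · exfalso
      have hpow : ∀ i : ℕ, g ^ i * (p : G) * (g ^ i)⁻¹ = (p : G) * a ^ i := by
        intro i
        induction i with
        | zero => simp
        | succ i ih =>
          have hga' : ∀ j : ℕ, g * a ^ j * g⁻¹ = a ^ j := fun j => by rw [← conj_pow, hga]
          rw [pow_succ' g i, show g * g ^ i * (p : G) * (g * g ^ i)⁻¹ = g * (g ^ i * (p : G) * (g ^ i)⁻¹) * g⁻¹ by group,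
            ih, show g * ((p : G) * a ^ i) * g⁻¹ = (g * (p : G) * g⁻¹) * (g * a ^ i * g⁻¹) by group, e', hga',
            mul_assoc, ← pow_succ']
      have h1 := hpow r
      rw [hgr _ hp] at h1
      obtain ⟨j, hj⟩ := hr
      rw [hj, pow_succ, pow_mul, pow_two, haa, one_pow, one_mul] at h1
      exact ha1 (left_eq_mul.1 h1)
  have hcT : centralizer ((T : Subgroup (C ⧸ Z)) : Set (C ⧸ Z)) ≤ (T : Subgroup (C ⧸ Z)) := by
    intro q hq
    obtain ⟨x, rfl⟩ := QuotientGroup.mk_surjective q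
    have hstep : ∀ p ∈ (P : Subgroup G), (x : G) * p * (x : G)⁻¹ = p ∨ (x : G) * p * (x : G)⁻¹ = p * a := by
      intro p hp
      have e : (x : C ⧸ Z) * ((⟨p, hPC hp⟩ : C) : C ⧸ Z) = ((⟨p, hPC hp⟩ : C) : C ⧸ Z) * (x : C ⧸ Z) :=
        (mem_centralizer_iff.1 hq _ ((hTmem _).2 ⟨⟨p, hPC hp⟩, hp, rfl⟩)).symm
      rw [← QuotientGroup.mk_mul, ← QuotientGroup.mk_mul] at e
      have hxa : (x : G) * a = a * (x : G) := mem_centralizer_singleton_iff.1 x.2
      rcases hmod _ _ e with h | h
      · left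
        have h' : (x : G) * p = p * (x : G) := h
        rw [h', mul_inv_cancel_right]
      · right
        have h' : (x : G) * p * a = p * (x : G) := h
        calc (x : G) * p * (x : G)⁻¹ = (x : G) * p * a * a * (x : G)⁻¹ := by rw [mul_assoc ((x : G) * p), haa, mul_one]
          _ = p * ((x : G) * a) * (x : G)⁻¹ := by rw [h', mul_assoc p]
          _ = p * a := by rw [hxa]; group
    have hxN : (x : G) ∈ normalizer ((P : Subgroup G) : Set G) := mem_normalizer_fintype fun p hp => by
      rcases hstep p hp with h | h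
      · rw [h]; exact hp
      · rw [h]; exact mul_mem hp haP
    have hx2 : (x : G) * x ∈ centralizer ((P : Subgroup G) : Set G) := by
      refine mem_centralizer_iff.2 fun p hp => ?_
      have hxa : (x : G) * a * (x : G)⁻¹ = a := by rw [mem_centralizer_singleton_iff.1 x.2, mul_inv_cancel_right]
      have h2 : (x : G) * x * p * ((x : G) * x)⁻¹ = p := by
        rw [show (x : G) * x * p * ((x : G) * x)⁻¹ = (x : G) * ((x : G) * p * (x : G)⁻¹) * (x : G)⁻¹ by group]
        rcases hstep p hp with h | h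
        · rw [h, h]
        · rw [h, show (x : G) * (p * a) * (x : G)⁻¹ = ((x : G) * p * (x : G)⁻¹) * ((x : G) * a * (x : G)⁻¹) by group,
            h, hxa, mul_assoc, haa, mul_one]
      rw [mul_inv_eq_iff_eq_mul] at h2
      exact h2.symm
    obtain ⟨i, hi⟩ := IsPGroup.iff_orderOf.1 P.isPGroup' ⟨(x : G) * x, hcP hx2⟩
    rw [Subgroup.orderOf_mk] at hi
    have hd : orderOf (x : G) ∣ 2 ^ (i + 1) := orderOf_dvd_of_pow_eq_one (by
      rw [pow_succ', pow_mul, pow_two, ← hi, pow_orderOf_eq_one])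
    obtain ⟨l, -, hl⟩ := (Nat.dvd_prime_pow Nat.prime_two).1 hd
    have h4 : IsPGroup 2 (zpowers (x : G)) := IsPGroup.of_card (n := l) (by rw [Nat.card_zpowers, hl])
    have hsup := h4.to_sup_of_normal_right' P.isPGroup' (zpowers_le.2 hxN)
    refine (hTmem _).2 ⟨x, ?_, rfl⟩
    rw [← P.is_maximal' hsup le_sup_right]
    exact mem_sup_left (mem_zpowers (x : G))
  have hns' : ¬ Group.IsSolvable (C ⧸ Z) := fun h => by
    haveI := h
    haveI : Group.IsSolvable Z := Group.isSolvable_of_comm fun x y => by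
      rcases x.2 with hx | hx
      · exact Subtype.ext (by simp [hx])
      · exact Subtype.ext (by show (x : C) * y = y * x; rw [hx]; exact hzc _)
    exact hns (Group.isSolvable_of_ker_le_range Z.subtype (QuotientGroup.mk' Z)
      (by rw [QuotientGroup.ker_mk', range_subtype]))
  have h44 := klein_block_bound hM T hT4 hcT gb hgbN hgbfix hns' hTsq
  -- the block of the centraliser
  set b0 := Finset.univ.filter (· ∈ principalBlock M C) with hb0
  refine ⟨∑ θ ∈ b0, charDegree (θ : C → ℂ) * charDegree (θ : C → ℂ), ?_, ?_⟩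
  · choose e he hez hec using fun θ : IrrCharacter C => central_sign θ hzc hz2
    have h0 : blockPair (principalBlock M C) (1 : C) z = 0 :=
      blockPair_regular_singular hM (isPBlock_principalBlock M C) (by simp)
        (by rw [← Subgroup.orderOf_coe, ha2])
    unfold blockPair at h0
    have h1 : ∑ θ ∈ b0, e θ * ((charDegree (θ : C → ℂ) * charDegree (θ : C → ℂ) : ℕ) : ℤ) = 0 := by
      have h' : ((∑ θ ∈ b0, e θ * ((charDegree (θ : C → ℂ) * charDegree (θ : C → ℂ) : ℕ) : ℤ) : ℤ) : ℂ) =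
          ((0 : ℤ) : ℂ) := by
        rw [Int.cast_zero, Int.cast_sum]
        refine Eq.trans (Finset.sum_congr (by rw [hb0]) fun θ _ => ?_) h0
        rw [hez, irr_one_eq_charDegree θ, map_mul, map_intCast, map_natCast]
        push_cast
        ring
      exact_mod_cast h'
    have h2 : 2 * ∑ θ ∈ b0.filter (fun θ => e θ = 1), (charDegree (θ : C → ℂ) * charDegree (θ : C → ℂ)) =
        ∑ θ ∈ b0, charDegree (θ : C → ℂ) * charDegree (θ : C → ℂ) := by
      have h3 := Finset.sum_filter_add_sum_filter_not b0 (fun θ => e θ = 1)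
        (fun θ => e θ * ((charDegree (θ : C → ℂ) * charDegree (θ : C → ℂ) : ℕ) : ℤ))
      have h4 := Finset.sum_filter_add_sum_filter_not b0 (fun θ => e θ = 1)
        (fun θ => charDegree (θ : C → ℂ) * charDegree (θ : C → ℂ))
      have h6 : ∑ θ ∈ b0.filter (fun θ => e θ = 1), e θ * ((charDegree (θ : C → ℂ) * charDegree (θ : C → ℂ) : ℕ) : ℤ) =
          ((∑ θ ∈ b0.filter (fun θ => e θ = 1), charDegree (θ : C → ℂ) * charDegree (θ : C → ℂ) : ℕ) : ℤ) := by
        rw [Nat.cast_sum]
        exact Finset.sum_congr rfl fun θ hθ => by rw [(Finset.mem_filter.1 hθ).2, one_mul]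
      have h7 : ∑ θ ∈ b0.filter (fun θ => ¬ e θ = 1), e θ * ((charDegree (θ : C → ℂ) * charDegree (θ : C → ℂ) : ℕ) : ℤ) =
          -((∑ θ ∈ b0.filter (fun θ => ¬ e θ = 1), charDegree (θ : C → ℂ) * charDegree (θ : C → ℂ) : ℕ) : ℤ) := by
        rw [Nat.cast_sum, ← Finset.sum_neg_distrib]
        exact Finset.sum_congr rfl fun θ hθ => by
          rw [(he θ).resolve_left (Finset.mem_filter.1 hθ).2, neg_one_mul]
      rw [h1, h6, h7] at h3
      omega
    have h5 : ∑ η ∈ Finset.univ.filter (· ∈ principalBlock M (C ⧸ Z)),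
          charDegree (η : C ⧸ Z → ℂ) * charDegree (η : C ⧸ Z → ℂ) ≤
        ∑ θ ∈ b0.filter (fun θ => e θ = 1), (charDegree (θ : C → ℂ) * charDegree (θ : C → ℂ)) := by
      refine le_trans (le_of_eq ?_) (Finset.sum_le_sum_of_subset
        (s := (Finset.univ.filter (· ∈ principalBlock M (C ⧸ Z))).image (Cfsg.Agent.CharX.infl Z)) ?_)
      · rw [Finset.sum_image]
        · rfl
        · intro η₁ _ η₂ _ h
          refine Subtype.ext (funext fun q => ?_)
          obtain ⟨w, rfl⟩ := QuotientGroup.mk_surjective q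
          exact congrFun (congrArg Subtype.val h) w
      · intro θ hθ
        obtain ⟨η, hη, rfl⟩ := Finset.mem_image.1 hθ
        refine Finset.mem_filter.2 ⟨Finset.mem_filter.2 ⟨Finset.mem_univ _, ?_⟩, ?_⟩
        · exact infl_mem_of_mem Z (isPBlock_principalBlock M C) (isPBlock_principalBlock M (C ⧸ Z))
            (χ := principal (C ⧸ Z)) (principal_mem_principalBlock) (Finset.mem_filter.1 hη).2
            (by rw [show Cfsg.Agent.CharX.infl Z (principal (C ⧸ Z)) = principal C from Subtype.ext rfl]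
                exact principal_mem_principalBlock)
        · have h6 := hez (Cfsg.Agent.CharX.infl Z η)
          rw [Cfsg.Agent.CharX.infl_trivialOn Z η z (Or.inr rfl)] at h6
          have h7 : ((e (Cfsg.Agent.CharX.infl Z η) : ℤ) : ℂ) = 1 := by
            have := irr_one_ne_zero (Cfsg.Agent.CharX.infl Z η)
            field_simp at h6
            exact h6.symm
          exact_mod_cast h7
    omega
  · have h1 := sum_normSq_section_principal hM (x := a) ⟨1, by rw [ha2, pow_one]⟩ hC (y := (1 : C))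
      (by simp)
    rw [OneMemClass.coe_one, mul_one] at h1
    rw [h1, Nat.cast_sum]
    unfold blockPair
    exact Finset.sum_congr (by rw [hb0]) fun θ _ => by
      rw [irr_one_eq_charDegree θ, map_natCast, Nat.cast_mul]

/-- The sections at the involution bound the number of values minus one. -/
theorem section_bound (hM : IsPModular 2 M) (P : Sylow 2 G) (hP8 : Nat.card (P : Subgroup G) = 8)
    (hcP : centralizer ((P : Subgroup G) : Set G) ≤ (P : Subgroup G)) {a : G}
    (haP : a ∈ (P : Subgroup G)) (ha : orderOf a = 2) (hPC : (P : Subgroup G) ≤ centralizer ({a} : Set G))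
    (A : Finset (IrrCharacter G)) (hA1 : principal G ∉ A) (hA : ∀ χ ∈ A, (χ : G → ℂ) a = -1) :
    A.card ≤ 16 := by
  classical
  haveI : Fact (Nat.Prime 2) := ⟨Nat.prime_two⟩
  haveI := resField_charP hM
  set C := centralizer ({a} : Set G) with hC
  haveI : Fintype C := Fintype.ofFinite C
  set z : C := ⟨a, hPC haP⟩ with hz
  have hzc : ∀ x : C, z * x = x * z := fun x => Subtype.ext (mem_centralizer_singleton_iff.1 x.2).symm
  have hz2 : z * z = 1 := Subtype.ext (by
    show a * a = 1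
    rw [← pow_two]; exact orderOf_dvd_iff_pow_eq_one.1 ha.dvd)
  set R := Finset.univ.filter (fun y : C => ¬ 2 ∣ orderOf y) with hR
  set c : ℂ := 8 / (Nat.card C : ℂ) with hc
  set L : IrrCharacter G → ℂ := fun χ => c * ∑ y ∈ R, (χ : G → ℂ) (a * (y : G)) with hL
  have hfac : (Nat.card C).factorization 2 = 3 := by
    have h1 := (P.subtype hPC).card_eq_multiplicity
    rw [Sylow.coe_subtype, Nat.card_congr (subgroupOfEquivOfLe hPC).toEquiv, hP8,
      show (8 : ℕ) = 2 ^ 3 by norm_num] at h1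
    exact (Nat.pow_right_injective le_rfl h1).symm
  have hint : ∀ χ, ∃ n : ℤ, L χ = (n : ℂ) := by
    intro χ
    have hres := Char.IsCharacter.restrict (irr_isCharacter χ) C
    obtain ⟨mu, hmu⟩ := Char.IsCharacter.exists_decomp hres
    choose e he hez hec using fun θ : IrrCharacter C => central_sign θ hzc hz2
    have hψ : IsGeneralizedCharacter C (fun y : C => (χ : G → ℂ) (a * (y : G))) := by
      have e1 : (fun y : C => (χ : G → ℂ) (a * (y : G))) =
          ∑ θ : IrrCharacter C, (((mu θ : ℤ) * e θ : ℤ) : ℂ) • (θ : C → ℂ) := by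
        funext y
        have := congrFun hmu (z * y)
        rw [Finset.sum_apply] at this ⊢
        refine this.trans (Finset.sum_congr rfl fun θ _ => ?_)
        rw [Pi.smul_apply, Pi.smul_apply, smul_eq_mul, smul_eq_mul, hec]
        push_cast; ring
      rw [e1]
      exact Char.isGeneralizedCharacter_sum _ fun θ _ => Char.IsGeneralizedCharacter.int_smul
        (Char.IsGeneralizedCharacter.of_isCharacter (irr_isCharacter θ)) _
    obtain ⟨n, hn⟩ := Char.IsGeneralizedCharacter.exists_classInner_int hψ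
      (Blocks.exact_divisibility hM (principal C)).1
    refine ⟨n, hn ▸ ?_⟩
    simp only [hL, classInner, hc, hR, Finset.sum_filter, Finset.mul_sum]
    refine Finset.sum_congr rfl fun y _ => ?_
    by_cases hy : 2 ∣ orderOf y
    · simp [hy]
    · have hfac' : (Fintype.card C).factorization 2 = 3 := by rw [Fintype.card_eq_nat_card]; exact hfac
      simp [hy, principal, charDegree, hfac', Complex.conj_ofNat]
      ring
  choose n hn using hint
  -- non-zero at the values minus one
  have hne : ∀ χ ∈ A, n χ ≠ 0 := by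
    intro χ hχ h0
    let S : Sylow 2 C := P.subtype hPC
    letI : MulAction (S : Subgroup C) C :=
      MulAction.compHom C ((MulAut.conj (G := C)).comp (S : Subgroup C).subtype)
    have hsmul : ∀ (v : (S : Subgroup C)) (y : C), v • y = (v : C) * y * (v : C)⁻¹ := fun _ _ => rfl
    let w : C → locRing M := fun y => ⟨(χ : G → ℂ) (a * (y : G)),
      mem_locRing_of_isIntegral (irr_isIntegral χ _)⟩
    let f : C → resField M := fun y => if ¬ 2 ∣ orderOf y then res M (w y) else 0
    have hf : ∀ (v : (S : Subgroup C)) (y : C), f (v • y) = f y := by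
      intro v y
      have hw : w (v • y) = w y := Subtype.ext (by
        show (χ : G → ℂ) (a * ((v • y : C) : G)) = (χ : G → ℂ) (a * (y : G))
        rw [hsmul, ← irr_conj_invariant χ (a * (y : G)) ((v : C) : G)]
        refine congrArg (χ : G → ℂ) ?_
        show a * (((v : C) : G) * (y : G) * ((v : C) : G)⁻¹) = ((v : C) : G) * (a * (y : G)) * ((v : C) : G)⁻¹
        rw [← mul_assoc (((v : C) : G)) a, mem_centralizer_singleton_iff.1 (v : C).2]
        group)
      have ho : orderOf (v • y) = orderOf y := by rw [hsmul, ← MulAut.conj_apply, MulEquiv.orderOf_eq]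
      simp only [f, hw, ho]
    have hone : ∀ y ∈ MulAction.fixedPoints (S : Subgroup C) C, ¬ 2 ∣ orderOf y → y = 1 := by
      intro y hy ho
      have hyP : (y : G) ∈ (P : Subgroup G) := hcP (mem_centralizer_iff.2 fun p hp => by
        have := congrArg Subtype.val ((hsmul ⟨⟨p, hPC hp⟩, hp⟩ y).symm.trans (hy ⟨⟨p, hPC hp⟩, hp⟩))
        exact mul_inv_eq_iff_eq_mul.1 this)
      obtain ⟨i, hi⟩ := IsPGroup.iff_orderOf.1 P.isPGroup' ⟨_, hyP⟩
      rw [Subgroup.orderOf_mk, Subgroup.orderOf_coe] at hi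
      exact eq_one_of_odd_two ⟨i, hi⟩ ho
    have key : res M (∑ y ∈ R, w y) = res M (w 1) := by
      rw [map_sum, hR, Finset.sum_filter, sum_eq_sum_fixed S.isPGroup' f hf, Finset.sum_eq_single (1 : C)]
      · simp [f]
      · intro y hy hy1
        simp only [f]
        rw [if_neg]
        exact fun ho => hy1 (hone y (Finset.mem_filter.1 hy).2 ho)
      · intro h
        exact absurd (Finset.mem_filter.2 ⟨Finset.mem_univ _, fun v => by rw [hsmul, mul_one, mul_inv_cancel]⟩) h
    have hsum : ∑ y ∈ R, w y = 0 := by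
      refine Subtype.ext ?_
      rw [AddSubmonoidClass.coe_finsetSum]
      have h1 := hn χ
      rw [h0, Int.cast_zero] at h1
      simp only [hL] at h1
      exact (mul_eq_zero.1 h1).resolve_left (div_ne_zero (by norm_num) (Nat.cast_ne_zero.2 Nat.card_pos.ne'))
    rw [hsum, map_zero, eq_comm, res_eq_zero_iff] at key
    have h2 : MemLocalIdeal M ((-1 : ℤ) : ℂ) := by
      have e : ((w 1 : locRing M) : ℂ) = ((-1 : ℤ) : ℂ) := by
        show (χ : G → ℂ) (a * ((1 : C) : G)) = _
        rw [OneMemClass.coe_one, mul_one, hA χ hχ]; norm_num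
      rw [← e]; exact key
    rw [intCast_memLocalIdeal_iff hM] at h2
    norm_num at h2
  -- the second orthogonality relation
  have hcount : ∀ y ∈ R, ∑ z' ∈ R, ((Finset.univ.filter fun x : G =>
      x * (a * (z' : G)) * x⁻¹ = a * (y : G)).card : ℂ) = (Nat.card C : ℂ) := by
    intro y hy
    rw [← Nat.cast_sum]
    congr 1
    rw [← Finset.card_sigma, Nat.card_eq_fintype_card, ← Finset.card_univ]
    have hy' : ¬ 2 ∣ orderOf y := (Finset.mem_filter.1 hy).2
    have hxC : ∀ z' : C, ¬ 2 ∣ orderOf z' → ∀ x : G, x * (a * (z' : G)) * x⁻¹ = a * (y : G) → x ∈ C := by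
      intro z' hz' x hx
      have hp : ∀ w : C, ¬ 2 ∣ orderOf w → IsPPart 2 (a * (w : G)) a := fun w hw =>
        ⟨(w : G), rfl, (mem_centralizer_singleton_iff.1 w.2).symm, ⟨1, by rw [ha, pow_one]⟩,
          by rwa [Subgroup.orderOf_coe]⟩
      have h1 := IsPPart.conj (hp z' hz') x
      rw [hx] at h1
      have := isPPart_unique Nat.prime_two h1 (hp y hy')
      exact mem_centralizer_singleton_iff.2 (mul_inv_eq_iff_eq_mul.1 this)
    refine Finset.card_bij (fun s hs => (⟨s.2, hxC s.1 (Finset.mem_filter.1 (Finset.mem_sigma.1 hs).1).2 s.2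
      (Finset.mem_filter.1 (Finset.mem_sigma.1 hs).2).2⟩ : C)) (fun _ _ => Finset.mem_univ _) ?_ ?_
    · rintro ⟨z₁, x₁⟩ h₁ ⟨z₂, x₂⟩ h₂ e
      have ex : x₁ = x₂ := congrArg Subtype.val e
      subst ex
      have e1 := (Finset.mem_filter.1 (Finset.mem_sigma.1 h₁).2).2
      have e2 := (Finset.mem_filter.1 (Finset.mem_sigma.1 h₂).2).2
      have : (z₁ : G) = (z₂ : G) := mul_left_cancel (mul_left_cancel (mul_right_cancel (e1.trans e2.symm)))
      rw [Subtype.ext this]
    · intro x _
      refine ⟨⟨x⁻¹ * y * x, (x : G)⟩, Finset.mem_sigma.2 ⟨Finset.mem_filter.2 ⟨Finset.mem_univ _, ?_⟩,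
        Finset.mem_filter.2 ⟨Finset.mem_univ _, ?_⟩⟩, rfl⟩
      · have : x⁻¹ * y * x = MulAut.conj x⁻¹ y := by rw [MulAut.conj_apply, inv_inv]
        rw [this, MulEquiv.orderOf_eq]
        exact hy'
      · show (x : G) * (a * ((x : G)⁻¹ * (y : G) * (x : G))) * (x : G)⁻¹ = a * (y : G)
        rw [← mul_assoc (x : G) a, mem_centralizer_singleton_iff.1 x.2]
        group
  have htot : ∑ χ : IrrCharacter G, L χ * conj (L χ) = 8 * L (principal G) := by
    have e1 : L (principal G) = c * (R.card : ℂ) := by simp [hL, principal]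
    have e2 : ∀ χ : IrrCharacter G, L χ * conj (L χ) =
        c * c * ∑ y ∈ R, ∑ z' ∈ R, (χ : G → ℂ) (a * (y : G)) * conj ((χ : G → ℂ) (a * (z' : G))) := by
      intro χ
      simp only [hL, map_mul, map_sum, hc, map_div₀, map_natCast, map_ofNat]
      rw [← Finset.sum_mul_sum]
      ring
    rw [Finset.sum_congr rfl fun χ _ => e2 χ, ← Finset.mul_sum, Finset.sum_comm,
      Finset.sum_congr rfl fun y hy => ?_, Finset.sum_const, nsmul_eq_mul, e1]
    rotate_left
    · exact (Nat.card C : ℂ)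
    · rw [Finset.sum_comm, Finset.sum_congr rfl fun (z' : C) _ => column_orth_count (a * (y : G)) (a * (z' : G))]
      exact hcount y hy
    · have : (Nat.card C : ℂ) ≠ 0 := Nat.cast_ne_zero.2 Nat.card_pos.ne'
      rw [hc]; field_simp
  have htot' : ∑ χ : IrrCharacter G, n χ * n χ = 8 * n (principal G) := by
    have : ((∑ χ : IrrCharacter G, n χ * n χ : ℤ) : ℂ) = ((8 * n (principal G) : ℤ) : ℂ) := by
      push_cast
      rw [← hn, ← htot]
      exact Finset.sum_congr rfl fun χ _ => by rw [hn, map_intCast]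
    exact_mod_cast this
  have hle : n (principal G) * n (principal G) + (A.card : ℤ) ≤ 8 * n (principal G) := by
    rw [← htot']
    refine le_trans ?_ (Finset.sum_le_sum_of_subset_of_nonneg (Finset.subset_univ (insert (principal G) A))
      fun χ _ _ => mul_self_nonneg _)
    rw [Finset.sum_insert hA1, Finset.card_eq_sum_ones, Nat.cast_sum]
    refine add_le_add le_rfl (Finset.sum_le_sum fun χ hχ => ?_)
    have := mul_self_pos.2 (hne χ hχ)
    push_cast
    omega
  nlinarith [sq_nonneg (n (principal G) - 4)]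

/-- The contradiction. -/
theorem Core.no_eight (h : Core M u t k) (hM : IsPModular 2 M) (P : Sylow 2 G)
    (hP8 : Nat.card (P : Subgroup G) = 8) {a : G} (haP : a ∈ (P : Subgroup G)) (ha1 : a ≠ 1)
    (hns : ¬ Group.IsSolvable ↥(centralizer ({a} : Set G))) {g : G}
    (hgN : g ∈ normalizer ((P : Subgroup G) : Set G)) (hga : g * a * g⁻¹ = a)
    (hfix : ∀ p ∈ (P : Subgroup G), g * p * g⁻¹ = p → p = 1 ∨ p = a) {r : ℕ} (hr : Odd r)
    (hgr : ∀ p ∈ (P : Subgroup G), g ^ r * p * (g ^ r)⁻¹ = p) : False := by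
  classical
  have hq : 4 ≤ Nat.card (P : Subgroup G) := by omega
  have hcP := h.cent_sylow hM P hq
  obtain ⟨N, hN88, hN⟩ := centraliser_bound hM P hP8 (fun p hp => h.sylow_sq P hp) hcP haP ha1 hns hgN hga hfix
    hr hgr
  have ha2 := h.orderOf_mem P haP ha1
  choose! c hcd hct hcu using (h.shape_chars hM P hq).1
  have hval : ∀ χ ∈ rest M G, (χ : G → ℂ) a = (((c χ : ℤ) - 1 : ℤ) : ℂ) := fun χ hχ => by
    rw [h.value_mem P χ haP ha1, hct χ hχ]; push_cast; ring
  -- the sum of squares
  have hN' : (N : ℤ) = 1 + ∑ χ ∈ rest M G, ((c χ : ℤ) - 1) * ((c χ : ℤ) - 1) := by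
    have e : ((N : ℤ) : ℂ) = ((1 + ∑ χ ∈ rest M G, ((c χ : ℤ) - 1) * ((c χ : ℤ) - 1) : ℤ) : ℂ) := by
      rw [Int.cast_natCast, ← hN, blockPair_split, Int.cast_add, Int.cast_one, Int.cast_sum]
      exact congrArg₂ _ rfl (Finset.sum_congr rfl fun χ hχ => by rw [hval χ hχ, map_intCast, Int.cast_mul])
    exact_mod_cast e
  -- the first column
  have hcol : (1 : ℤ) + ∑ χ ∈ rest M G, (((c χ : ℤ) - 1) + 8) * ((c χ : ℤ) - 1) = 0 := by
    have h1 : blockPair (principalBlock M G) 1 a = 0 :=
      blockPair_regular_singular hM (isPBlock_principalBlock M G) (by simp) (by rw [ha2])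
    have e : ((1 + ∑ χ ∈ rest M G, (((c χ : ℤ) - 1) + 8) * ((c χ : ℤ) - 1) : ℤ) : ℂ) = ((0 : ℤ) : ℂ) := by
      rw [Int.cast_zero, ← h1, blockPair_split, Int.cast_add, Int.cast_one, Int.cast_sum]
      refine congrArg₂ _ rfl (Finset.sum_congr rfl fun χ hχ => ?_)
      rw [hval χ hχ, map_intCast, irr_one_eq_charDegree χ, Int.cast_mul]
      congr 1
      have := hcd χ hχ
      rw [hP8] at this
      have e2 : ((charDegree (χ : G → ℂ) : ℤ)) = (c χ : ℤ) - 1 + 8 := by omega
      rw [← e2, Int.cast_natCast]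
    exact_mod_cast e
  set A := (rest M G).filter (fun χ => c χ = 0) with hA
  set B := (rest M G).filter (fun χ => ¬ c χ = 0) with hB
  have hA16 : A.card ≤ 16 := by
    refine section_bound hM P hP8 hcP haP ha2
      (fun p hp => mem_centralizer_singleton_iff.2 (h.sylow_comm P p hp a haP)) A ?_ ?_
    · intro hp
      exact (mem_rest.1 (Finset.mem_filter.1 hp).1).2 rfl
    · intro χ hχ
      rw [hval χ (Finset.mem_filter.1 hχ).1, (Finset.mem_filter.1 hχ).2]; norm_num
  set S := ∑ χ ∈ B, ((c χ : ℤ) - 1) with hS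
  have hB0 : ∀ χ ∈ B, (0 : ℤ) ≤ (c χ : ℤ) - 1 := fun χ hχ => by
    have := (Finset.mem_filter.1 hχ).2; omega
  have hS2 : ∑ χ ∈ B, ((c χ : ℤ) - 1) * ((c χ : ℤ) - 1) ≤ S * S := by
    rw [hS, Finset.sum_mul]
    exact Finset.sum_le_sum fun χ hχ => mul_le_mul_of_nonneg_left
      (Finset.single_le_sum hB0 hχ) (hB0 χ hχ)
  have hS0 : 0 ≤ S := Finset.sum_nonneg hB0
  have s1 : ∑ χ ∈ rest M G, ((c χ : ℤ) - 1) * ((c χ : ℤ) - 1) =
      (A.card : ℤ) + ∑ χ ∈ B, ((c χ : ℤ) - 1) * ((c χ : ℤ) - 1) := by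
    rw [← Finset.sum_filter_add_sum_filter_not (rest M G) (fun χ => c χ = 0), ← hA, ← hB,
      Finset.sum_congr rfl (g := fun _ => (1 : ℤ)) fun χ hχ => by rw [(Finset.mem_filter.1 hχ).2]; norm_num]
    simp
  have s2 : ∑ χ ∈ rest M G, ((c χ : ℤ) - 1) = -(A.card : ℤ) + S := by
    rw [← Finset.sum_filter_add_sum_filter_not (rest M G) (fun χ => c χ = 0), ← hA, ← hB, ← hS,
      Finset.sum_congr rfl (g := fun _ => (-1 : ℤ)) fun χ hχ => by rw [(Finset.mem_filter.1 hχ).2]; norm_num]
    simp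
  simp only [add_mul, Finset.sum_add_distrib, ← Finset.mul_sum] at hcol
  rw [s1, s2] at hcol
  rw [s1] at hN'
  have h88 : (88 : ℤ) ≤ N := by exact_mod_cast hN88
  have ha16 : (A.card : ℤ) ≤ 16 := by exact_mod_cast hA16
  have hS5 : S ≤ 5 := by omega
  have : S * S ≤ 25 := by nlinarith
  omega

end Cfsg.Agent.ConstDiff
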