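import Cfsg.Agent.Lib.AbelInv.Main
import Cfsg.Agent.Lib.ConstDiff.PSL
import Cfsg.Agent.Lib.Blocks.SecondMain
import Mathlib.Order.Minimal

/-!
A centraliser with solvable involution centralisers modulo its centre maps onto a group with a
normal subgroup PSL₂; transitivity lifts.
-/

set_option autoImplicit false
set_option linter.unusedSectionVars false
set_option linter.style.haveILetI false

namespace Cfsg.Agent.ConstDiff

open Subgroup

universe u

theorem four_dvd_card_psl {F : Type} [Field F] [Fintype F] (hF : AbelInv.GoodField F) :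
    4 ∣ Nat.card (Matrix.ProjectiveSpecialLinearGroup (Fin 2) F) := by
  have hc := ProjLine.two_mul_card_psl (F := F)
  rw [Nat.card_eq_fintype_card (α := F)] at hc
  have h4 : 4 ≤ Fintype.card F := by
    rcases hF with ⟨-, h5⟩ | ⟨n, hn, hc'⟩
    · omega
    · rw [hc']; exact (by norm_num : 4 = 2 ^ 2) ▸ Nat.pow_le_pow_right (by norm_num) hn
  replace hc : Nat.gcd 2 (Fintype.card F - 1) * Nat.card (Matrix.ProjectiveSpecialLinearGroup (Fin 2) F) =
      Fintype.card F * (Fintype.card F - 1) * (Fintype.card F + 1) :=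
    Nat.eq_of_mul_eq_mul_right (show 0 < Fintype.card F - 1 by omega) (hc.trans (by ring))
  generalize Nat.card (Matrix.ProjectiveSpecialLinearGroup (Fin 2) F) = N at hc ⊢
  rcases hF with ⟨h8, h5⟩ | ⟨n, hn, hc'⟩
  · obtain ⟨m, hm⟩ : ∃ m, Fintype.card F = 2 * m + 1 := ⟨Fintype.card F / 2, by omega⟩
    rw [show Nat.gcd 2 (Fintype.card F - 1) = 2 from Nat.gcd_eq_left ⟨m, by omega⟩, hm,
      show 2 * m + 1 - 1 = 2 * m by omega] at hc
    obtain ⟨j, hj⟩ := (Nat.even_mul_succ_self m).two_dvd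
    exact ⟨(2 * m + 1) * j, by nlinarith⟩
  · obtain ⟨j, rfl⟩ : ∃ j, n = 2 + j := ⟨n - 2, by omega⟩
    rw [show Nat.gcd 2 (Fintype.card F - 1) = 1 from Nat.coprime_two_left.2 (by
      rw [hc', pow_add]; exact ⟨2 * 2 ^ j - 1, by have := Nat.two_pow_pos j; omega⟩), one_mul] at hc
    rw [hc, hc', pow_add]
    exact dvd_mul_of_dvd_left (dvd_mul_of_dvd_left (dvd_mul_of_dvd_left (by norm_num) _) _) _

variable {G : Type u} [Group G] [Finite G]

theorem relIndex_inf_eq {Q : Type u} [Group Q] [Finite Q] (T N : Subgroup Q) [N.Normal] :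
    (T ⊓ N).relIndex N = T.relIndex (T ⊔ N) := by
  have h1 := relIndex_mul_relIndex ⊥ (T ⊓ N) N bot_le inf_le_right
  have h2 := relIndex_mul_relIndex ⊥ (T ⊓ N) T bot_le inf_le_left
  have h3 := relIndex_mul_relIndex ⊥ N (T ⊔ N) bot_le le_sup_right
  have h4 := relIndex_mul_relIndex ⊥ T (T ⊔ N) bot_le le_sup_left
  rw [relIndex_sup_right, ← inf_relIndex_left T N, ← h1] at h3
  rw [← h2] at h4
  rw [relIndex_bot_left] at h3 h4
  have hA : 0 < Nat.card ↥(T ⊓ N) := Nat.card_pos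
  have hb : 0 < (T ⊓ N).relIndex T := Nat.pos_of_ne_zero (Subgroup.index_ne_zero_of_finite (H := (T ⊓ N).subgroupOf T))
  refine Nat.eq_of_mul_eq_mul_left (Nat.mul_pos hA hb) ?_
  rw [mul_right_comm, h3, ← h4]

/-- The data for an insoluble centraliser of a subgroup of an elementary abelian Sylow 2-subgroup all
of whose larger members have soluble centralisers. -/
theorem exists_quot (P : Sylow 2 G) (hsq : ∀ a ∈ (P : Subgroup G), a * a = 1) {A : Subgroup G}
    (hAP : A ≤ (P : Subgroup G)) (hA : ¬ Group.IsSolvable ↥(centralizer (A : Set G)))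
    (hmax : ∀ s ∈ (P : Subgroup G), s ∉ A →
      Group.IsSolvable ↥(centralizer ((A ⊔ zpowers s : Subgroup G) : Set G))) :
    ∃ V₀ : Subgroup G, A ≤ V₀ ∧ V₀ ≤ (P : Subgroup G) ∧ 4 * Nat.card A ≤ Nat.card V₀ ∧
      ∃ H : Subgroup G, H ≤ normalizer ((P : Subgroup G) : Set G) ∧ H ≤ centralizer (A : Set G) ∧
        (∀ g ∈ H, ∀ p ∈ (P : Subgroup G), g * p * g⁻¹ * p⁻¹ ∈ V₀) ∧
        ∀ p ∈ V₀, p ∉ A → ∀ p' ∈ V₀, p' ∉ A → ∃ g ∈ H, g * p * g⁻¹ * p'⁻¹ ∈ A := by
  classical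
  haveI : Fact (Nat.Prime 2) := ⟨Nat.prime_two⟩
  have hinv : ∀ a ∈ (P : Subgroup G), a⁻¹ = a := fun a ha => inv_eq_of_mul_eq_one_right (hsq a ha)
  have hcomm : ∀ a ∈ (P : Subgroup G), ∀ b ∈ (P : Subgroup G), a * b = b * a := by
    intro a ha b hb
    rw [← hinv _ (mul_mem ha hb), mul_inv_rev, hinv a ha, hinv b hb]
  set X := centralizer (A : Set G) with hX
  have hPX : (P : Subgroup G) ≤ X := fun a ha => mem_centralizer_iff.2 fun b hb => hcomm b (hAP hb) a ha
  have hAX : A ≤ X := hAP.trans hPX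
  set AX := A.subgroupOf X with hAXd
  haveI hAXn : AX.Normal := ⟨fun n hn g => by
    rw [hAXd, mem_subgroupOf] at hn ⊢
    show (g : G) * n * (g : G)⁻¹ ∈ A
    rw [← mem_centralizer_iff.1 g.2 (n : G) hn, mul_inv_cancel_right]
    exact hn⟩
  haveI hAXs : Group.IsSolvable AX := by
    refine Group.isSolvable_of_comm fun a b => ?_
    exact Subtype.ext (Subtype.ext (hcomm _ (hAP (mem_subgroupOf.1 a.2)) _ (hAP (mem_subgroupOf.1 b.2))))
  let S : Sylow 2 X := P.subtype hPX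
  let S' : Sylow 2 (X ⧸ AX) := S.mapSurjective (QuotientGroup.mk'_surjective AX)
  have hS'c : IsMulCommutative (S' : Subgroup (X ⧸ AX)) := by
    refine ⟨⟨?_⟩⟩
    rintro ⟨_, a, ha, rfl⟩ ⟨_, b, hb, rfl⟩
    refine Subtype.ext ?_
    show _ * _ = _ * _
    rw [← map_mul, ← map_mul]
    exact congrArg _ (Subtype.ext (hcomm _ (by exact ha) _ (by exact hb)))
  -- involution centralisers of the quotient
  have hsol : ∀ s : X ⧸ AX, orderOf s = 2 → Group.IsSolvable ↥(centralizer ({s} : Set (X ⧸ AX))) := by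
    intro s hs
    obtain ⟨R, hR⟩ := (IsPGroup.of_card (n := 1) (p := 2) (by rw [Nat.card_zpowers, hs, pow_one]) :
      IsPGroup 2 (zpowers s)).exists_le_sylow
    obtain ⟨c, hc⟩ := MulAction.exists_smul_eq (X ⧸ AX) R S'
    have hcs : c * s * c⁻¹ ∈ (S' : Subgroup (X ⧸ AX)) := by
      rw [← hc, Sylow.coe_subgroup_smul]
      exact ⟨s, hR (mem_zpowers s), rfl⟩
    obtain ⟨p, hp, hps⟩ := hcs
    have hpP : (p : G) ∈ (P : Subgroup G) := by exact hp
    have hpA : (p : G) ∉ A := by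
      intro hpA
      have : (QuotientGroup.mk' AX) p = 1 := (QuotientGroup.eq_one_iff p).2 (mem_subgroupOf.2 hpA)
      rw [this] at hps
      rw [eq_comm, conj_eq_one_iff] at hps
      rw [hps, orderOf_one] at hs
      omega
    haveI := hmax _ hpP hpA
    set Y := (centralizer ({(QuotientGroup.mk' AX) p} : Set (X ⧸ AX))).comap (QuotientGroup.mk' AX) with hY
    have hYmem : ∀ y ∈ Y, (y : G) * p * (y : G)⁻¹ * (p : G)⁻¹ ∈ A := by
      intro y hy
      rw [hY, mem_comap, mem_centralizer_singleton_iff, ← map_mul, ← map_mul] at hy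
      have h1 : (y * p) * (p * y)⁻¹ ∈ AX := by
        rw [← QuotientGroup.eq_one_iff]
        show (QuotientGroup.mk' AX) (y * p * (p * y)⁻¹) = 1
        rw [map_mul, map_inv, hy, mul_inv_cancel]
      have h2 := mem_subgroupOf.1 h1
      rw [mul_inv_rev, ← mul_assoc] at h2
      exact h2
    let φ : Y →* AX :=
      { toFun := fun y => ⟨⟨_, hAX (hYmem y.1 y.2)⟩, mem_subgroupOf.2 (hYmem y.1 y.2)⟩
        map_one' := by
          refine Subtype.ext (Subtype.ext ?_)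
          show ((1 : X) : G) * p * ((1 : X) : G)⁻¹ * (p : G)⁻¹ = 1
          simp
        map_mul' := fun y z => by
          refine Subtype.ext (Subtype.ext ?_)
          have hz := hYmem z.1 z.2
          have hy := hYmem y.1 y.2
          have hyz := mem_centralizer_iff.1 (y : X).2 _ hz
          show ((y : X) : G) * ((z : X) : G) * p * (((y : X) : G) * ((z : X) : G))⁻¹ * (p : G)⁻¹ =
            ((y : X) : G) * p * ((y : X) : G)⁻¹ * (p : G)⁻¹ * (((z : X) : G) * p * ((z : X) : G)⁻¹ * (p : G)⁻¹)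
          rw [hcomm _ (hAP hy) _ (hAP hz)]
          calc ((y : X) : G) * ((z : X) : G) * p * (((y : X) : G) * ((z : X) : G))⁻¹ * (p : G)⁻¹
              = ((y : X) : G) * (((z : X) : G) * p * ((z : X) : G)⁻¹ * (p : G)⁻¹) * p * ((y : X) : G)⁻¹ * (p : G)⁻¹ := by group
            _ = _ := by rw [← hyz]; group }
    haveI : Group.IsSolvable φ.ker := by
      have hle : φ.ker.map (X.subtype.comp Y.subtype) ≤ centralizer ((A ⊔ zpowers (p : G) : Subgroup G) : Set G) := by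
        rintro _ ⟨y, hy, rfl⟩
        rw [MonoidHom.coe_comp, Function.comp_apply]
        have hy1 : ((y : X) : G) * p * ((y : X) : G)⁻¹ * (p : G)⁻¹ = 1 :=
          congrArg (fun a : AX => ((a : X) : G)) hy
        rw [mul_inv_eq_one, mul_inv_eq_iff_eq_mul] at hy1
        have hyA : ((y : X) : G) ∈ centralizer (A : Set G) := (y : X).2
        refine mem_centralizer_iff.2 fun q hq => ?_
        have hle' : A ⊔ zpowers (p : G) ≤ centralizer ({((y : X) : G)} : Set G) :=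
          sup_le (fun a ha => mem_centralizer_singleton_iff.2 (mem_centralizer_iff.1 hyA a ha))
            (zpowers_le.2 (mem_centralizer_singleton_iff.2 hy1.symm))
        exact mem_centralizer_singleton_iff.1 (hle' hq)
      have hinj : Function.Injective (((X.subtype.comp Y.subtype).comp φ.ker.subtype).codRestrict
          (centralizer ((A ⊔ zpowers (p : G) : Subgroup G) : Set G)) fun y => hle ⟨y, y.2, rfl⟩) :=
        fun a b e => Subtype.ext (Subtype.ext (Subtype.ext (congrArg Subtype.val e :)))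
      exact Group.isSolvable_of_isSolvable_injective hinj
    haveI : Group.IsSolvable Y := Group.isSolvable_of_ker_le_range φ.ker.subtype φ (by rw [range_subtype])
    haveI hp' : Group.IsSolvable ↥(centralizer ({(QuotientGroup.mk' AX) p} : Set (X ⧸ AX))) := by
      refine Group.isSolvable_of_surjective
        (f := ((QuotientGroup.mk' AX).comp Y.subtype).codRestrict _ fun y => y.2) ?_
      rintro ⟨z, hz⟩
      obtain ⟨y, rfl⟩ := QuotientGroup.mk'_surjective AX z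
      exact ⟨⟨y, hz⟩, rfl⟩
    rw [hps] at hp'
    haveI := hp'
    have hconj : ∀ w : centralizer ({s} : Set (X ⧸ AX)),
        c * (w : X ⧸ AX) * c⁻¹ ∈ centralizer ({c * s * c⁻¹} : Set (X ⧸ AX)) := by
      intro w
      have hw := mem_centralizer_singleton_iff.1 w.2
      rw [mem_centralizer_singleton_iff]
      calc c * (w : X ⧸ AX) * c⁻¹ * (c * s * c⁻¹) = c * ((w : X ⧸ AX) * s) * c⁻¹ := by group
        _ = c * (s * (w : X ⧸ AX)) * c⁻¹ := by rw [hw]
        _ = _ := by group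
    refine Group.isSolvable_of_isSolvable_injective
      (f := ((MulAut.conj c).toMonoidHom.comp (centralizer ({s} : Set (X ⧸ AX))).subtype).codRestrict _ hconj) ?_
    exact fun a b e => Subtype.ext ((MulAut.conj c).injective (congrArg Subtype.val e))
  rcases AbelInv.solvable_or_psl2 S' hS'c hsol with hs | ⟨F, iF, iFF, hgood, N, hN, ⟨e⟩, -⟩
  · haveI := hs
    exact absurd (Group.isSolvable_of_ker_le_range AX.subtype (QuotientGroup.mk' AX)
      (by rw [QuotientGroup.ker_mk', range_subtype])) hA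
  haveI := hN
  haveI : (Cfsg.oddCore (X ⧸ AX)).Normal := FittingCores.pPrimeCore_normal (G := X ⧸ AX) 2
  set f : X →* (X ⧸ AX) ⧸ Cfsg.oddCore (X ⧸ AX) :=
    (QuotientGroup.mk' (Cfsg.oddCore (X ⧸ AX))).comp (QuotientGroup.mk' AX) with hf
  have hfs : Function.Surjective f :=
    (QuotientGroup.mk'_surjective _).comp (QuotientGroup.mk'_surjective AX)
  have hker : ∀ p : X, (p : G) ∈ (P : Subgroup G) → f p = 1 → (p : G) ∈ A := by
    intro p hp h1
    have h2 : (QuotientGroup.mk' AX) p ∈ Cfsg.oddCore (X ⧸ AX) := (QuotientGroup.eq_one_iff _).1 h1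
    have h3 : Odd (Nat.card (Cfsg.oddCore (X ⧸ AX))) := SEBrick.oddCore_odd
    have h4 : (QuotientGroup.mk' AX) p = 1 := by
      refine orderOf_eq_one_iff.1 (Nat.eq_one_of_dvd_coprimes
        (Nat.coprime_two_left.2 h3) (orderOf_dvd_of_pow_eq_one ?_) (orderOf_dvd_natCard _ h2))
      rw [pow_two, ← map_mul, show p * p = 1 from Subtype.ext (hsq _ hp), map_one]
    exact mem_subgroupOf.1 ((QuotientGroup.eq_one_iff p).1 h4)
  have hkerA : ∀ p : X, (p : G) ∈ A → f p = 1 := fun p hp => by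
    rw [hf, MonoidHom.comp_apply, show (QuotientGroup.mk' AX) p = 1 from
      (QuotientGroup.eq_one_iff p).2 (mem_subgroupOf.2 hp), map_one]
  let T : Sylow 2 ((X ⧸ AX) ⧸ Cfsg.oddCore (X ⧸ AX)) := S.mapSurjective hfs
  have hTcomm : ∀ a ∈ (T : Subgroup ((X ⧸ AX) ⧸ Cfsg.oddCore (X ⧸ AX))), ∀ b ∈ (T : Subgroup _),
      a * b = b * a := by
    rintro _ ⟨a, ha, rfl⟩ _ ⟨b, hb, rfl⟩
    rw [← map_mul, ← map_mul]
    exact congrArg _ (Subtype.ext (hcomm _ (by exact ha) _ (by exact hb)))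
  refine ⟨((P : Subgroup G).subgroupOf X ⊓ N.comap f).map X.subtype, ?_, ?_, ?_, ?_⟩
  · intro a ha
    exact ⟨⟨a, hAX ha⟩, ⟨hAP ha, by show f ⟨a, hAX ha⟩ ∈ N; rw [hkerA ⟨a, hAX ha⟩ ha]; exact N.one_mem⟩, rfl⟩
  · rintro _ ⟨x, hx, rfl⟩
    exact hx.1
  · -- the size
    set W := (P : Subgroup G).subgroupOf X ⊓ N.comap f with hW
    rw [card_map_of_injective X.subtype_injective]
    have him : W.map f = (T : Subgroup _) ⊓ N := by
      refine le_antisymm ?_ ?_
      · rintro _ ⟨x, hx, rfl⟩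
        exact ⟨⟨x, hx.1, rfl⟩, hx.2⟩
      · rintro z ⟨⟨x, hx, rfl⟩, hz⟩
        exact ⟨x, ⟨hx, hz⟩, rfl⟩
    have h4 : 4 ∣ Nat.card ↥((T : Subgroup ((X ⧸ AX) ⧸ Cfsg.oddCore (X ⧸ AX))) ⊓ N) := by
      set W' := ((T : Subgroup ((X ⧸ AX) ⧸ Cfsg.oddCore (X ⧸ AX))) ⊓ N).subgroupOf N with hW'
      have hidx : ¬ 2 ∣ W'.index := by
        intro hd
        rw [hW'] at hd
        change 2 ∣ ((T : Subgroup ((X ⧸ AX) ⧸ Cfsg.oddCore (X ⧸ AX))) ⊓ N).relIndex N at hd
        rw [relIndex_inf_eq] at hd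
        exact T.not_dvd_index (hd.trans (relIndex_dvd_index_of_le le_sup_left))
      have h1 := W'.card_mul_index
      rw [Nat.card_congr (subgroupOfEquivOfLe inf_le_right).toEquiv, Nat.card_congr e.toEquiv] at h1
      have h2 := four_dvd_card_psl hgood
      rw [← h1] at h2
      exact (Nat.Coprime.dvd_of_dvd_mul_right
        (((Nat.Prime.coprime_iff_not_dvd Nat.prime_two).2 hidx).pow_left 2) (by norm_num; exact h2))
    have h5 := (f.comp W.subtype).ker.card_mul_index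
    rw [index_ker, MonoidHom.range_comp, range_subtype, him] at h5
    have hkW : Nat.card A ≤ Nat.card (f.comp W.subtype).ker := by
      refine Nat.card_le_card_of_injective (fun a : A => ⟨⟨⟨a, hAX a.2⟩,
        ⟨hAP a.2, by show f ⟨a, hAX a.2⟩ ∈ N; rw [hkerA ⟨a, hAX a.2⟩ a.2]; exact N.one_mem⟩⟩,
        hkerA ⟨a, hAX a.2⟩ a.2⟩) fun a b hab => Subtype.ext ?_
      exact congrArg (fun z : (f.comp W.subtype).ker => (((z : W) : X) : G)) hab
    rw [← h5, mul_comm]
    exact Nat.mul_le_mul hkW (Nat.le_of_dvd Nat.card_pos h4)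
  · refine ⟨((normalizer ((P : Subgroup G) : Set G)).subgroupOf X ⊓ N.comap f).map X.subtype, ?_, ?_, ?_, ?_⟩
    · rintro _ ⟨x, hx, rfl⟩
      exact hx.1
    · exact map_subtype_le _
    · rintro _ ⟨g, hg, rfl⟩ p hp
      have hgp : (g : G) * p * (g : G)⁻¹ ∈ (P : Subgroup G) := (mem_normalizer_iff.1 hg.1 p).1 hp
      have hm : (g : G) * p * (g : G)⁻¹ * p⁻¹ ∈ (P : Subgroup G) := mul_mem hgp (inv_mem hp)
      refine ⟨g * ⟨p, hPX hp⟩ * g⁻¹ * (⟨p, hPX hp⟩ : X)⁻¹, ⟨hm, ?_⟩, rfl⟩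
      show f (g * ⟨p, hPX hp⟩ * g⁻¹ * (⟨p, hPX hp⟩ : X)⁻¹) ∈ N
      rw [map_mul, map_mul, map_mul, map_inv, map_inv,
        show f g * f ⟨p, hPX hp⟩ * (f g)⁻¹ * (f ⟨p, hPX hp⟩)⁻¹ =
          f g * (f ⟨p, hPX hp⟩ * (f g)⁻¹ * (f ⟨p, hPX hp⟩)⁻¹) by group]
      exact mul_mem hg.2 (hN.conj_mem _ (inv_mem hg.2) _)
    · rintro _ ⟨p, ⟨hpP, hpN⟩, rfl⟩ hpA _ ⟨p', ⟨hp'P, hp'N⟩, rfl⟩ hp'A
      have hinvol : ∀ q : X, (q : G) ∈ (P : Subgroup G) → (q : G) ∉ A → orderOf (f q) = 2 := fun q hq hqA =>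
        orderOf_eq_prime (by rw [pow_two, ← map_mul, show q * q = 1 from Subtype.ext (hsq _ hq), map_one])
          fun h1 => hqA (hker q hq h1)
      have hpN : f p ∈ N := hpN
      have hp'N : f p' ∈ N := hp'N
      have hpP' : (p : G) ∈ (P : Subgroup G) := hpP
      have hp'P' : (p' : G) ∈ (P : Subgroup G) := hp'P
      obtain ⟨c, hc⟩ := isConj_iff.1 (psl_good_invol_conj hgood
        (a := e ⟨f p, hpN⟩) (b := e ⟨f p', hp'N⟩)
        (by rw [MulEquiv.orderOf_eq, Subgroup.orderOf_mk]; exact hinvol p hpP' hpA)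
        (by rw [MulEquiv.orderOf_eq, Subgroup.orderOf_mk]; exact hinvol p' hp'P' hp'A))
      obtain ⟨m, hm⟩ : ∃ m : N, (m : (X ⧸ AX) ⧸ Cfsg.oddCore (X ⧸ AX)) * f p *
          (m : (X ⧸ AX) ⧸ Cfsg.oddCore (X ⧸ AX))⁻¹ = f p' := by
        refine ⟨e.symm c, ?_⟩
        have := congrArg (fun z => ((e.symm z : N) : (X ⧸ AX) ⧸ Cfsg.oddCore (X ⧸ AX))) hc
        simpa using this
      -- fusion in the product with the Sylow subgroup
      set Y := N ⊔ (T : Subgroup ((X ⧸ AX) ⧸ Cfsg.oddCore (X ⧸ AX))) with hY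
      let TY : Sylow 2 Y := T.subtype le_sup_right
      haveI : IsMulCommutative (TY : Subgroup Y) :=
        ⟨⟨fun a b => Subtype.ext (Subtype.ext (hTcomm _ (by exact a.2) _ (by exact b.2)))⟩⟩
      have hfT : ∀ q : X, (q : G) ∈ (P : Subgroup G) → f q ∈ (T : Subgroup ((X ⧸ AX) ⧸ Cfsg.oddCore (X ⧸ AX))) :=
        fun q hq => ⟨q, by exact hq, rfl⟩
      let mY : Y := ⟨m, mem_sup_left m.2⟩
      obtain ⟨n, hn, hn'⟩ := Sylow.conj_eq_normalizer_conj_of_mem TY
        (⟨f p, mem_sup_left hpN⟩ : Y) mY⁻¹ (by exact hfT p hpP') (by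
          rw [inv_inv]
          show (m : (X ⧸ AX) ⧸ Cfsg.oddCore (X ⧸ AX)) * f p * (m : (X ⧸ AX) ⧸ Cfsg.oddCore (X ⧸ AX))⁻¹ ∈
            (T : Subgroup ((X ⧸ AX) ⧸ Cfsg.oddCore (X ⧸ AX)))
          rw [hm]
          exact hfT p' hp'P')
      rw [inv_inv] at hn'
      have hn'' : (n : (X ⧸ AX) ⧸ Cfsg.oddCore (X ⧸ AX))⁻¹ * f p *
          (n : (X ⧸ AX) ⧸ Cfsg.oddCore (X ⧸ AX)) = f p' := by
        rw [← hm]; exact (congrArg Subtype.val hn').symm
      obtain ⟨m', hm', w, hw, hmw⟩ := mem_sup_of_normal_left.1 (inv_mem n.2)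
      have hn2 := inv_mem hn
      have hm'p : m' * f p * m'⁻¹ = f p' := by
        rw [← hn'', show (n : (X ⧸ AX) ⧸ Cfsg.oddCore (X ⧸ AX)) = (m' * w)⁻¹ by rw [hmw, inv_inv],
          inv_inv, show m' * w * f p * (m' * w)⁻¹ = m' * (w * f p * w⁻¹) * m'⁻¹ by group,
          hTcomm w hw (f p) (hfT p hpP'), mul_inv_cancel_right]
      have hm'T : ∀ z ∈ (T : Subgroup ((X ⧸ AX) ⧸ Cfsg.oddCore (X ⧸ AX))), m' * z * m'⁻¹ ∈
          (T : Subgroup ((X ⧸ AX) ⧸ Cfsg.oddCore (X ⧸ AX))) := by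
        intro z hz
        have h1 := (mem_normalizer_iff.1 hn2 (⟨z, mem_sup_right hz⟩ : Y)).1 (by exact hz)
        have h2 : (n : (X ⧸ AX) ⧸ Cfsg.oddCore (X ⧸ AX))⁻¹ * z * (n : (X ⧸ AX) ⧸ Cfsg.oddCore (X ⧸ AX)) ∈
            (T : Subgroup ((X ⧸ AX) ⧸ Cfsg.oddCore (X ⧸ AX))) := by
          have h3 : ((n⁻¹ * (⟨z, mem_sup_right hz⟩ : Y) * n⁻¹⁻¹ : Y) : (X ⧸ AX) ⧸ Cfsg.oddCore (X ⧸ AX)) ∈
            (T : Subgroup ((X ⧸ AX) ⧸ Cfsg.oddCore (X ⧸ AX))) := h1
          simpa using h3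
        rw [show (n : (X ⧸ AX) ⧸ Cfsg.oddCore (X ⧸ AX)) = (m' * w)⁻¹ by rw [hmw, inv_inv], inv_inv,
          show m' * w * z * (m' * w)⁻¹ = m' * (w * z * w⁻¹) * m'⁻¹ by group, hTcomm w hw z hz,
          mul_inv_cancel_right] at h2
        exact h2
      -- lift
      obtain ⟨x, hx⟩ := hfs m'
      set W := (T : Subgroup ((X ⧸ AX) ⧸ Cfsg.oddCore (X ⧸ AX))).comap f with hW
      have hSW : ((S : Sylow 2 X) : Subgroup X) ≤ W := fun q hq => by
        rw [hW, mem_comap]; exact ⟨q, hq, rfl⟩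
      have hxSW : ((x • S : Sylow 2 X) : Subgroup X) ≤ W := by
        rw [Sylow.coe_subgroup_smul]
        rintro _ ⟨q, hq, rfl⟩
        rw [hW, mem_comap]
        show f (x * q * x⁻¹) ∈ _
        rw [map_mul, map_mul, map_inv, hx]
        exact hm'T _ ⟨q, hq, rfl⟩
      obtain ⟨w', hw'⟩ := MulAction.exists_smul_eq W ((x • S).subtype hxSW) (S.subtype hSW)
      rw [Sylow.smul_subtype] at hw'
      have h6 : (w' : X) * x ∈ normalizer ((S : Subgroup X) : Set X) := by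
        refine Sylow.smul_eq_iff_mem_normalizer.1 ?_
        rw [mul_smul]
        exact Sylow.subtype_injective hw'
      obtain ⟨s₀, hs₀, hs₀w⟩ : ∃ s₀ ∈ (S : Subgroup X), f s₀ = f (w' : X) := by
        obtain ⟨q, hq, hqe⟩ := (w'.2 : f (w' : X) ∈ (T : Subgroup _))
        exact ⟨q, hq, hqe⟩
      set g : X := s₀⁻¹ * ((w' : X) * x) with hg
      have hgS : g ∈ normalizer ((S : Subgroup X) : Set X) := mul_mem (inv_mem (le_normalizer hs₀)) h6
      have hfg : f g = m' := by rw [hg, map_mul, map_inv, map_mul, ← hs₀w, hx]; group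
      have hgP : (g : G) ∈ normalizer ((P : Subgroup G) : Set G) := by
        rw [mem_normalizer_iff]
        intro y
        constructor
        · intro hy
          exact (mem_normalizer_iff.1 hgS ⟨y, hPX hy⟩).1 (by exact hy)
        · intro hy
          have hyX : y ∈ X := by
            have := mul_mem (mul_mem (inv_mem g.2) (hPX hy)) g.2
            simpa [mul_assoc] using this
          exact (mem_normalizer_iff.1 hgS ⟨y, hyX⟩).2 (by exact hy)
      refine ⟨(g : G), ⟨g, ⟨hgP, by show f g ∈ N; rw [hfg]; exact hm'⟩, rfl⟩, ?_⟩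
      refine hker (g * p * g⁻¹ * p'⁻¹) (mul_mem ((mem_normalizer_iff.1 hgP _).1 hpP') (inv_mem hp'P')) ?_
      rw [map_mul, map_mul, map_mul, map_inv, map_inv, hfg, hm'p, mul_inv_cancel]

end Cfsg.Agent.ConstDiff
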