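import Cfsg.Agent.Lib.ConstDiff.Chars
import Cfsg.Agent.Lib.ConstDiff.Quot
import Cfsg.Agent.Lib.AbelInv.Semilinear
import Cfsg.Agent.Lib.Blocks.KleinLocal

/-!
An insoluble involution centraliser forces a Sylow subgroup of order eight and an element of order
three modulo it fixing one involution.
-/

set_option autoImplicit false
set_option linter.unusedSectionVars false
set_option linter.style.haveILetI false

namespace Cfsg.Agent.ConstDiff

open Cfsg Subgroup

universe u

/-- The action of the normaliser on the Sylow subgroup. -/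
noncomputable abbrev autP {G : Type u} [Group G] (P : Sylow 2 G) : Subgroup (MulAut (P : Subgroup G)) :=
  (P : Subgroup G).normalizerMonoidHom.range

theorem autP_smul {G : Type u} [Group G] (P : Sylow 2 G) (n : normalizer ((P : Subgroup G) : Set G))
    (a : (P : Subgroup G)) :
    (((⟨(P : Subgroup G).normalizerMonoidHom n, n, rfl⟩ : autP P) • a : (P : Subgroup G)) : G) =
      (n : G) * (a : G) * (n : G)⁻¹ := rfl

theorem autP_odd {G : Type u} [Group G] [Finite G] (P : Sylow 2 G)
    (hP : ∀ a ∈ (P : Subgroup G), ∀ b ∈ (P : Subgroup G), a * b = b * a) :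
    Odd (Nat.card (autP P)) := by
  rw [← Subgroup.index_ker, Subgroup.normalizerMonoidHom_ker, Nat.odd_iff, ← Nat.two_dvd_ne_zero]
  intro h
  have hle : centralizer ((P : Subgroup G) : Set G) ≤ normalizer ((P : Subgroup G) : Set G) :=
    centralizer_le_normalizer _
  exact P.not_dvd_index (h.trans ((dvd_mul_right _ _).trans
    ((Subgroup.relIndex_mul_index hle).dvd.trans
      (Subgroup.index_dvd_of_le (fun a ha => Subgroup.mem_centralizer_iff.2 fun b hb =>
        hP b hb a ha)))))

/-- A group with a Sylow subgroup of order four and a central involution is soluble. -/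
theorem solvable_of_card_four {G : Type u} [Group G] [Finite G] (hS : KleinBlock.Setup G) {J : G}
    (hJ : orderOf J = 2) : Group.IsSolvable ↥(centralizer ({J} : Set G)) := by
  haveI : Fact (Nat.Prime 2) := ⟨Nat.prime_two⟩
  set O := Cfsg.pPrimeCore 2 ↥(centralizer ({J} : Set G)) with hO
  haveI : O.Normal := FittingCores.pPrimeCore_normal 2
  haveI : Group.IsSolvable O := S0205.result (Nat.not_even_iff_odd.1 fun he =>
    KleinBlock.oddCore_coprime hS J he.two_dvd)
  obtain ⟨j, hj⟩ := KleinBlock.oddCore_index_pow hS hJ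
  haveI : Group.IsNilpotent (↥(centralizer ({J} : Set G)) ⧸ O) :=
    (IsPGroup.of_card (p := 2) (n := j) (by rw [← Subgroup.index_eq_card]; exact hj)).isNilpotent
  exact Group.isSolvable_of_ker_le_range O.subtype (QuotientGroup.mk' O)
    (by rw [QuotientGroup.ker_mk', Subgroup.range_subtype])

theorem pow_two_bound {d r n m α : ℕ} (hn : r * d = n) (h1 : n ≤ d + m) (h2 : 2 ^ m ≤ r + 1)
    (hm : 2 ≤ m) (hα : 1 ≤ α) (hαd : α ≤ d) : n = 3 ∧ d = 1 := by
  have h3 : (2 ^ m - 2) * d ≤ m := by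
    have : (r - 1) * d ≤ m := by rw [Nat.sub_mul, one_mul, hn]; omega
    exact le_trans (Nat.mul_le_mul_right d (by omega)) this
  rcases Nat.lt_or_ge m 3 with hm3 | hm3
  · obtain rfl : m = 2 := by omega
    have hr : 3 ≤ r := by norm_num at h2; omega
    have hd : d = 1 := by norm_num at h3; omega
    subst hd
    omega
  · exfalso
    have h4 : ∀ j : ℕ, 3 ≤ j → j + 3 ≤ 2 ^ j := by
      intro j hj
      induction j, hj using Nat.le_induction with
      | base => norm_num
      | succ j hj ih => rw [pow_succ]; omega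
    have := h4 m hm3
    have : (2 ^ m - 2) * 1 ≤ (2 ^ m - 2) * d := Nat.mul_le_mul_left _ (by omega)
    omega

variable {G : Type u} [Group G] [Fintype G] {M : Ideal AlgInt} [M.IsPrime]
variable {u t : G} {k : ℂ}

/-- What an insoluble involution centraliser gives. -/
theorem Core.local_data (h : Core M u t k) (hM : IsPModular 2 M) (P : Sylow 2 G)
    (hq : 4 ≤ Nat.card (P : Subgroup G))
    (hC : ∃ s : G, orderOf s = 2 ∧ ¬ Group.IsSolvable ↥(centralizer ({s} : Set G))) :
    Nat.card (P : Subgroup G) = 8 ∧ ∃ a ∈ (P : Subgroup G), a ≠ 1 ∧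
      ¬ Group.IsSolvable ↥(centralizer ({a} : Set G)) ∧
      ∃ g ∈ normalizer ((P : Subgroup G) : Set G), g * a * g⁻¹ = a ∧
        (∀ p ∈ (P : Subgroup G), g * p * g⁻¹ = p → p = 1 ∨ p = a) ∧
        ∃ r : ℕ, Odd r ∧ ∀ p ∈ (P : Subgroup G), g ^ r * p * (g ^ r)⁻¹ = p := by
  classical
  haveI : Fact (Nat.Prime 2) := ⟨Nat.prime_two⟩
  have hsq : ∀ a ∈ (P : Subgroup G), a * a = 1 := fun a ha => h.sylow_sq P ha
  have hcomm := h.sylow_comm P
  obtain ⟨n, hn⟩ : ∃ n, Nat.card (P : Subgroup G) = 2 ^ n := ⟨_, P.card_eq_multiplicity⟩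
  -- the Sylow subgroup has order at least eight
  have hn3 : 3 ≤ n := by
    by_contra hlt
    have hn2 : n = 2 := by
      have : n ≤ 2 := by omega
      rw [hn] at hq
      interval_cases n <;> simp_all
    obtain ⟨s, hs, hns⟩ := hC
    exact hns (solvable_of_card_four (KleinBlock.Setup.of_sylow P (by rw [hn, hn2]; norm_num)
      (fun x => Subtype.ext (hsq x x.2))
      fun a b ha hb => (h.conj_invol a ha).symm.trans (h.conj_invol b hb)) hs)
  -- an involution of the Sylow subgroup with insoluble centraliser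
  obtain ⟨a₀, ha₀, ha₀1, ha₀s⟩ : ∃ a ∈ (P : Subgroup G), a ≠ 1 ∧
      ¬ Group.IsSolvable ↥(centralizer ({a} : Set G)) := by
    obtain ⟨s, hs, hns⟩ := hC
    obtain ⟨R, hR⟩ := (IsPGroup.of_card (n := 1) (p := 2) (by rw [Nat.card_zpowers, hs, pow_one]) :
      IsPGroup 2 (zpowers s)).exists_le_sylow
    obtain ⟨c, hc⟩ := MulAction.exists_smul_eq G R P
    refine ⟨c * s * c⁻¹, ?_, fun e => ?_, fun hsol => hns ?_⟩
    · rw [← hc, Sylow.coe_subgroup_smul]
      exact ⟨s, hR (mem_zpowers s), rfl⟩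
    · rw [conj_eq_one_iff] at e; rw [e, orderOf_one] at hs; omega
    · haveI := hsol
      have hconj : ∀ w : centralizer ({s} : Set G), c * (w : G) * c⁻¹ ∈ centralizer ({c * s * c⁻¹} : Set G) := by
        intro w
        have hw := mem_centralizer_singleton_iff.1 w.2
        rw [mem_centralizer_singleton_iff]
        calc c * (w : G) * c⁻¹ * (c * s * c⁻¹) = c * ((w : G) * s) * c⁻¹ := by group
          _ = c * (s * (w : G)) * c⁻¹ := by rw [hw]
          _ = _ := by group
      exact Group.isSolvable_of_isSolvable_injective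
        (f := ((MulAut.conj c).toMonoidHom.comp (centralizer ({s} : Set G)).subtype).codRestrict _ hconj)
        (fun x y e => Subtype.ext ((MulAut.conj c).injective (congrArg Subtype.val e)))
  -- a maximal subgroup with insoluble centraliser
  have hz : zpowers a₀ ≤ (P : Subgroup G) := zpowers_le.2 ha₀
  obtain ⟨A, ⟨hAP, hA1, hAs⟩, hAmax⟩ := (Set.toFinite {A : Subgroup G | A ≤ (P : Subgroup G) ∧ A ≠ ⊥ ∧
    ¬ Group.IsSolvable ↥(centralizer (A : Set G))}).exists_maximal ⟨zpowers a₀, hz, by simpa using ha₀1, by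
      rwa [Blocks.centralizer_zpowers_eq]⟩
  have hmax : ∀ s ∈ (P : Subgroup G), s ∉ A →
      Group.IsSolvable ↥(centralizer ((A ⊔ zpowers s : Subgroup G) : Set G)) := by
    intro s hs hsA
    by_contra hns
    refine hsA ((hAmax (y := A ⊔ zpowers s) ⟨sup_le hAP (zpowers_le.2 hs), fun e => hA1 ?_, hns⟩ le_sup_left)
      (mem_sup_right (mem_zpowers s)))
    exact le_bot_iff.1 (e ▸ le_sup_left)
  obtain ⟨V₀, hAV, hVP, hV4, H, hHN, hHA, hHtriv, hHtrans⟩ := exists_quot P hsq hAP hAs hmax
  obtain ⟨a, haA, ha1⟩ := (bot_or_exists_ne_one A).resolve_left hA1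
  -- the semilinear structure
  letI := AbelInv.commOf (P : Subgroup G) ⟨⟨fun x y => Subtype.ext (hcomm x x.2 y y.2)⟩⟩
  have hodd : Odd (Nat.card (autP P)) := autP_odd P hcomm
  have hone : ∀ z : (P : Subgroup G), z * z = 1 := fun z => Subtype.ext (hsq z z.2)
  have hcard : Nat.card {z : (P : Subgroup G) // z * z = 1} = 2 ^ n :=
    (Nat.card_congr (Equiv.subtypeUnivEquiv hone)).trans hn
  set a' : (P : Subgroup G) := ⟨a, hAP haA⟩ with ha'
  have hSh := AbelInv.shape (S := (P : Subgroup G)) (K := autP P) P.isPGroup' hodd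
    (fun r hr => Subtype.ext (MulEquiv.ext hr)) (t := a') (Subtype.ext (hsq a (hAP haA)))
    (fun e => ha1 (congrArg Subtype.val e))
    (fun z _ hz1 => by
      obtain ⟨g, hg, hgz⟩ := h.exists_normalizer P (hAP haA) ha1 z.2 (fun e => hz1 (Subtype.ext e))
      exact ⟨⟨(P : Subgroup G).normalizerMonoidHom ⟨g, hg⟩, ⟨g, hg⟩, rfl⟩,
        Subtype.ext (by rw [autP_smul]; exact hgz)⟩) hn3 hcard
  -- the image of the group fixing the subgroup
  set ρ : ↥(H.subgroupOf (normalizer ((P : Subgroup G) : Set G))) →* autP P :=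
    ((P : Subgroup G).normalizerMonoidHom.rangeRestrict).comp
      (H.subgroupOf (normalizer ((P : Subgroup G) : Set G))).subtype with hρ
  have hρfix : ∀ x, ∀ q : (P : Subgroup G), (q : G) ∈ A → (ρ x) • q = q := fun x q hqA => by
    refine Subtype.ext ?_
    show ((x.1 : G)) * (q : G) * (x.1 : G)⁻¹ = q
    rw [← mem_centralizer_iff.1 (hHA (mem_subgroupOf.1 x.2)) (q : G) hqA, mul_inv_cancel_right]
  have hle : ρ.range ≤ MulAction.stabilizer (autP P) a' := by
    rintro _ ⟨x, rfl⟩
    exact hρfix x a' haA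
  haveI := hSh.cyclic
  haveI : IsCyclic ρ.range := isCyclic_of_injective _ (inclusion_injective hle)
  obtain ⟨⟨σ, hσ⟩, hgen⟩ := IsCyclic.exists_generator (α := ρ.range)
  set r := orderOf σ with hr
  have hrdvd : r ∣ n := by
    refine dvd_trans ?_ hSh.dvd
    exact Subgroup.orderOf_dvd_natCard _ (hle hσ)
  have hrodd : Odd r := hodd.of_dvd_nat (orderOf_dvd_natCard σ)
  have hfix := hSh.fixed σ (hle hσ)
  rw [← hr] at hfix
  set Fx : Subgroup (P : Subgroup G) :=
    { carrier := {z | σ • z = z}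
      one_mem' := smul_one σ
      mul_mem' := fun {y z} hy hz => by
        show σ • (y * z) = y * z
        rw [smul_mul', hy, hz]
      inv_mem' := fun {y} hy => by
        show σ • y⁻¹ = y⁻¹
        rw [smul_inv', hy] } with hFx
  have hFxmem : ∀ z, z ∈ Fx ↔ σ • z = z := fun _ => Iff.rfl
  have hFcard : Nat.card Fx = 2 ^ (n / r) := by
    rw [← hfix]
    exact Nat.card_congr (Equiv.subtypeEquivRight fun z => ⟨fun hz => ⟨hone z, hz⟩, fun hz => hz.2⟩)
  have hσfixA : ∀ q : (P : Subgroup G), (q : G) ∈ A → q ∈ Fx := fun q hq => by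
    obtain ⟨x, hx⟩ := hσ
    rw [hFxmem, ← hx]
    exact hρfix x q hq
  have hσtriv : ∀ q : (P : Subgroup G), ((σ • q : (P : Subgroup G)) : G) * (q : G)⁻¹ ∈ V₀ := fun q => by
    obtain ⟨x, hx⟩ := hσ
    rw [← hx]
    exact hHtriv _ (mem_subgroupOf.1 x.2) q q.2
  set A' := A.subgroupOf (P : Subgroup G) with hA'
  set V' := V₀.subgroupOf (P : Subgroup G) with hV'
  have hA'c : Nat.card A' = Nat.card A := Nat.card_congr (subgroupOfEquivOfLe hAP).toEquiv
  have hV'c : Nat.card V' = Nat.card V₀ := Nat.card_congr (subgroupOfEquivOfLe hVP).toEquiv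
  -- the Sylow subgroup is the product of the fixed subgroup and `V₀`
  have hprod : ∀ q : (P : Subgroup G), ∃ x ∈ Fx, ∃ y ∈ V', q = x * y := by
    intro q
    refine ⟨∏ i ∈ Finset.range r, σ ^ i • q, ?_, (∏ i ∈ Finset.range r, σ ^ i • q)⁻¹ * q, ?_, by group⟩
    · rw [hFxmem, Finset.smul_prod']
      have e := (Finset.prod_range_succ (fun i => σ ^ i • q) r).symm.trans
        (Finset.prod_range_succ' (fun i => σ ^ i • q) r)
      rw [pow_zero, one_smul, hr, pow_orderOf_eq_one, one_smul, ← hr] at e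
      conv_lhs => arg 2; ext i; rw [smul_smul, ← pow_succ']
      exact (mul_right_cancel e).symm
    · have h1 : ∀ i, (σ ^ i • q) * q⁻¹ ∈ V' := by
        intro i
        induction i with
        | zero => rw [pow_zero, one_smul, mul_inv_cancel]; exact one_mem _
        | succ i ih =>
          rw [show σ ^ (i + 1) • q * q⁻¹ = σ • (σ ^ i • q) * (σ ^ i • q)⁻¹ * (σ ^ i • q * q⁻¹) by
            rw [pow_succ', mul_smul]; group]
          exact mul_mem (mem_subgroupOf.2 (hσtriv _)) ih
      have h2 : (∏ i ∈ Finset.range r, σ ^ i • q) * q⁻¹ ∈ V' := by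
        have e : ∏ i ∈ Finset.range r, (σ ^ i • q * q⁻¹) = (∏ i ∈ Finset.range r, σ ^ i • q) * q⁻¹ := by
          rw [Finset.prod_mul_distrib, Finset.prod_const, Finset.card_range]
          congr 1
          obtain ⟨j, hj⟩ := hrodd
          rw [hj, pow_succ, pow_mul, pow_two, ← mul_inv, hone, inv_one, one_pow, one_mul]
        rw [← e]
        exact Subgroup.prod_mem _ fun i _ => h1 i
      have := inv_mem h2
      rwa [mul_inv_rev, inv_inv, mul_comm] at this
  obtain ⟨α, hα⟩ := IsPGroup.iff_card.1 (P.isPGroup'.to_le hAP)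
  obtain ⟨β, hβ⟩ := IsPGroup.iff_card.1 (P.isPGroup'.to_le hVP)
  have hα1 : 1 ≤ α := by
    by_contra hlt
    have : α = 0 := by omega
    rw [this, pow_zero] at hα
    exact hA1 (A.eq_bot_of_card_eq hα)
  have hαd : α ≤ n / r := by
    have : Nat.card A' ≤ Nat.card Fx := Subgroup.card_le_of_le fun q hq => hσfixA q (mem_subgroupOf.1 hq)
    rw [hA'c, hα, hFcard] at this
    exact (Nat.pow_le_pow_iff_right (by norm_num)).1 this
  have hcount : n + α ≤ n / r + β := by
    let μ : Prod Fx V' →* (P : Subgroup G) := MonoidHom.coprod Fx.subtype V'.subtype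
    have hμ : Function.Surjective μ := fun q => by
      obtain ⟨x, hx, y, hy, e⟩ := hprod q
      exact ⟨(⟨x, hx⟩, ⟨y, hy⟩), e.symm⟩
    have h1 := μ.ker.card_mul_index
    rw [index_ker, μ.range_eq_top.2 hμ, card_top, Nat.card_prod, hFcard, hV'c, hβ, hn] at h1
    have h2 : Nat.card A ≤ Nat.card μ.ker := by
      refine Nat.card_le_card_of_injective (fun q : A => ⟨(⟨⟨q, hAP q.2⟩, hσfixA _ q.2⟩,
        ⟨⟨q, hAP q.2⟩, mem_subgroupOf.2 (hAV q.2)⟩), ?_⟩) ?_
      · rw [MonoidHom.mem_ker]
        exact hone ⟨q, hAP q.2⟩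
      · intro x y e
        exact Subtype.ext (congrArg (fun z : μ.ker => (((z.1.1 : Fx) : (P : Subgroup G)) : G)) e)
    rw [hα] at h2
    have : 2 ^ α * 2 ^ n ≤ 2 ^ (n / r) * 2 ^ β := h1 ▸ Nat.mul_le_mul_right _ h2
    rw [← pow_add, ← pow_add] at this
    have := (Nat.pow_le_pow_iff_right (by norm_num)).1 this
    omega
  have hαβ : α + 2 ≤ β := by
    rw [hα, hβ] at hV4
    refine (Nat.pow_le_pow_iff_right (show 1 < 2 by norm_num)).1 ?_
    rw [pow_add]; linarith
  -- the orbit
  obtain ⟨p₀, hp₀, hp₀A⟩ : ∃ p ∈ V₀, p ∉ A := by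
    by_contra hall
    push Not at hall
    have := Subgroup.card_le_of_le (show V₀ ≤ A from hall)
    rw [hα, hβ] at this
    have := (Nat.pow_le_pow_iff_right (by norm_num)).1 this
    omega
  have horb : Nat.card V₀ ≤ (r + 1) * Nat.card A := by
    have hex : ∀ q : V₀, ∃ i : Option (ρ.range), (i.elim ((1 : G)) fun s =>
        (((s : autP P) • (⟨p₀, hVP hp₀⟩ : (P : Subgroup G)) : (P : Subgroup G)) : G)) * (q : G) ∈ A := by
      intro q
      by_cases hqA : (q : G) ∈ A
      · exact ⟨none, by simpa using hqA⟩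
      · obtain ⟨g, hg, hgq⟩ := hHtrans p₀ hp₀ hp₀A q q.2 hqA
        refine ⟨some ⟨ρ ⟨⟨g, hHN hg⟩, mem_subgroupOf.2 hg⟩, _, rfl⟩, ?_⟩
        show g * p₀ * g⁻¹ * (q : G) ∈ A
        rwa [inv_eq_of_mul_eq_one_right (hsq q (hVP q.2))] at hgq
    choose i hi using hex
    have h1 := Nat.card_le_card_of_injective (fun q : V₀ => ((i q, ⟨_, hi q⟩) : Prod (Option ρ.range) A))
      fun x y e => by
        have e1 : i x = i y := congrArg Prod.fst e
        have e2 : (i x).elim (1 : G) (fun s => (((s : autP P) • (⟨p₀, hVP hp₀⟩ : (P : Subgroup G)) : (P : Subgroup G)) : G)) * (x : G) =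
            (i y).elim (1 : G) (fun s => (((s : autP P) • (⟨p₀, hVP hp₀⟩ : (P : Subgroup G)) : (P : Subgroup G)) : G)) * (y : G) :=
          congrArg (fun z : Prod (Option ρ.range) A => ((z.2 : A) : G)) e
        rw [e1] at e2
        exact Subtype.ext (mul_left_cancel e2)
    rw [Nat.card_prod, Finite.card_option] at h1
    rw [hr, ← Nat.card_zpowers σ]
    refine h1.trans (Nat.mul_le_mul_right _ (Nat.add_le_add_right (Subgroup.card_le_of_le fun s hs => ?_) 1))
    obtain ⟨j, hj⟩ := mem_zpowers_iff.1 (hgen ⟨s, hs⟩)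
    exact mem_zpowers_iff.2 ⟨j, congrArg Subtype.val hj⟩
  have hbound : n = 3 ∧ n / r = 1 := by
    refine pow_two_bound (r := r) (m := β - α) (Nat.mul_div_cancel' hrdvd) (by omega) ?_ (by omega) hα1 hαd
    rw [hα, hβ] at horb
    refine Nat.le_of_mul_le_mul_right ?_ (Nat.two_pow_pos α)
    rw [← pow_add, Nat.sub_add_cancel (by omega)]
    exact horb
  obtain ⟨hn3', hd1⟩ := hbound
  have hA2 : Nat.card A = 2 := by rw [hα, show α = 1 by omega, pow_one]
  have hAa : ∀ q ∈ A, q = 1 ∨ q = a := by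
    intro q hqA
    by_contra hne
    push Not at hne
    have h3 : ({⟨1, one_mem A⟩, ⟨a, haA⟩, ⟨q, hqA⟩} : Finset A).card = 3 := by
      rw [Finset.card_eq_three]
      exact ⟨_, _, _, fun e => ha1 (congrArg Subtype.val e).symm, fun e => hne.1 (congrArg Subtype.val e).symm,
        fun e => hne.2 (congrArg Subtype.val e).symm, rfl⟩
    haveI : Fintype A := Fintype.ofFinite _
    have h2 := Finset.card_le_univ ({⟨1, one_mem A⟩, ⟨a, haA⟩, ⟨q, hqA⟩} : Finset A)
    rw [h3, ← Nat.card_eq_fintype_card, hA2] at h2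
    omega
  refine ⟨by rw [hn, hn3']; norm_num, a, hAP haA, ha1, ?_, ?_⟩
  · intro hsol
    refine hAs ?_
    haveI := hsol
    exact Group.isSolvable_of_isSolvable_injective
      (f := inclusion (centralizer_le (Set.singleton_subset_iff.2 haA) :
        centralizer (A : Set G) ≤ centralizer ({a} : Set G))) (inclusion_injective _)
  · obtain ⟨x, hx⟩ := hσ
    have hact : ∀ q : (P : Subgroup G), ((σ • q : (P : Subgroup G)) : G) = (x.1 : G) * (q : G) * (x.1 : G)⁻¹ :=
      fun q => by rw [← hx]; rfl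
    refine ⟨(x.1 : G), hHN (mem_subgroupOf.1 x.2), ?_, ?_, r, hrodd, ?_⟩
    · have := hρfix x a' haA
      exact congrArg Subtype.val this
    · intro p hp hpx
      have hmem : (⟨p, hp⟩ : (P : Subgroup G)) ∈ Fx := (hFxmem _).2 (Subtype.ext ((hact _).trans hpx))
      have hFA : A' = Fx := Subgroup.eq_of_le_of_card_ge
        (fun q hq => hσfixA q (mem_subgroupOf.1 hq)) (by rw [hA'c, hA2, hFcard, hd1]; norm_num)
      rw [← hFA] at hmem
      exact hAa p (mem_subgroupOf.1 hmem)
    · intro p hp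
      have e : (ρ x) ^ r = 1 := by rw [hx, hr, pow_orderOf_eq_one]
      rw [← map_pow] at e
      have := congrArg (fun s : autP P => ((s • (⟨p, hp⟩ : (P : Subgroup G)) : (P : Subgroup G)) : G)) e
      simpa [hρ] using (show ((x ^ r).1 : G) * p * ((x ^ r).1 : G)⁻¹ = p by
        rw [one_smul] at this; exact this)

end Cfsg.Agent.ConstDiff
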