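import Cfsg.Agent.Lib.ConstDiff.Soluble
import Cfsg.Agent.Lib.ConstDiff.Local
import Cfsg.Agent.Lib.ConstDiff.Count

/-!
The classification for a trivial odd core.
-/

set_option autoImplicit false
set_option linter.unusedSectionVars false
set_option linter.style.haveILetI false

namespace Cfsg.Agent.ConstDiff

open Cfsg Subgroup

universe u

variable {G : Type u} [Group G] [Fintype G] {M : Ideal AlgInt} [M.IsPrime]

theorem forward (hM : IsPModular 2 M) (hO : Cfsg.oddCore G = ⊥) {u : G} (hu : u ≠ 1) {k : ℂ}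
    (hk : ∀ χ ∈ rest M G, (χ : G → ℂ) 1 - (χ : G → ℂ) u = k) :
    Nat.card G = 2 ∨ ∃ (F : Type) (_ : Field F) (_ : Fintype F) (n : ℕ), 2 ≤ n ∧ Fintype.card F = 2 ^ n ∧
      Nonempty (G ≃* Matrix.ProjectiveSpecialLinearGroup (Fin 2) F) ∧ u ^ 2 = 1 := by
  classical
  haveI : Fact (Nat.Prime 2) := ⟨Nat.prime_two⟩
  obtain ⟨t, h⟩ := exists_core hM hO hu hk
  obtain ⟨P⟩ : Nonempty (Sylow 2 G) := inferInstance
  have htwo : 2 ∣ Nat.card G := h.invol ▸ orderOf_dvd_natCard t
  by_cases hq : 4 ≤ Nat.card (P : Subgroup G)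
  · right
    by_cases hC : ∀ s : G, orderOf s = 2 → Group.IsSolvable ↥(centralizer ({s} : Set G))
    · exact h.soluble_case hM P hq hC
    · push Not at hC
      obtain ⟨h8, a, haP, ha1, hns, g, hgN, hga, hfix, r, hr, hgr⟩ := h.local_data hM P hq hC
      exact (h.no_eight hM P h8 haP ha1 hns hgN hga hfix hr hgr).elim
  · left
    have h2 : Nat.card (P : Subgroup G) = 2 := by
      have hc := P.card_eq_multiplicity
      have h1 : 0 < (Nat.card G).factorization 2 :=
        Nat.prime_two.factorization_pos_of_dvd Nat.card_pos.ne' htwo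
      rw [hc] at hq ⊢
      have : (Nat.card G).factorization 2 < 2 := by
        by_contra h2
        push Not at h2
        exact hq ((by norm_num : 4 = 2 ^ 2) ▸ Nat.pow_le_pow_right (by norm_num) h2)
      rw [show (Nat.card G).factorization 2 = 1 by omega, pow_one]
    obtain ⟨v, w, hvw, hpair⟩ := Nat.card_eq_two_iff.1 h2
    have hNC : normalizer ((P : Subgroup G) : Set G) ≤ centralizer ((P : Subgroup G) : Set G) := by
      intro x hx
      refine mem_centralizer_iff.2 fun y hy => ?_
      by_cases hy1 : y = 1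
      · rw [hy1, one_mul, mul_one]
      have hxy : x * y * x⁻¹ ∈ (P : Subgroup G) := (mem_normalizer_iff.1 hx y).1 hy
      have hall : ∀ z ∈ (P : Subgroup G), z ≠ 1 → z = y := by
        intro z hz hz1
        by_contra hne
        haveI : Fintype (P : Subgroup G) := Fintype.ofFinite _
        have h3 : ({⟨1, one_mem _⟩, ⟨y, hy⟩, ⟨z, hz⟩} : Finset (P : Subgroup G)).card = 3 :=
          Finset.card_eq_three.2 ⟨_, _, _, fun e => hy1 (congrArg Subtype.val e).symm,
            fun e => hz1 (congrArg Subtype.val e).symm, fun e => hne (congrArg Subtype.val e).symm, rfl⟩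
        have := Finset.card_le_univ ({⟨1, one_mem _⟩, ⟨y, hy⟩, ⟨z, hz⟩} : Finset (P : Subgroup G))
        rw [h3, ← Nat.card_eq_fintype_card, h2] at this
        omega
      have e := hall _ hxy fun e => hy1 (conj_eq_one_iff.1 e)
      exact (mul_inv_eq_iff_eq_mul.1 e).symm
    have hcompl := MonoidHom.ker_transferSylow_isComplement' P hNC
    have hK : (MonoidHom.transferSylow P hNC).ker = ⊥ := by
      refine le_bot_iff.1 (hO ▸ Cfsg.Agent.PBasic.le_pPrimeCore inferInstance ?_)
      refine ((Nat.Prime.coprime_iff_not_dvd Nat.prime_two).2 fun hd => ?_).symm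
      rw [← hcompl.index_eq_card] at hd
      exact P.not_dvd_index hd
    have := hcompl.card_mul
    rw [hK, card_bot, one_mul, h2] at this
    exact this.symm

end Cfsg.Agent.ConstDiff
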