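import Cfsg.Agent.Lib.ConstDiff.Basic

/-!
The constant is the order of a Sylow 2-subgroup.
-/

set_option autoImplicit false
set_option linter.unusedSectionVars false
set_option linter.style.haveILetI false

namespace Cfsg.Agent.ConstDiff

open Cfsg Cfsg.Agent.Char Cfsg.Agent.Blocks
open scoped ComplexConjugate

universe u

variable {G : Type u} [Group G] [Fintype G] {M : Ideal AlgInt} [M.IsPrime]
variable {u t : G} {k : ℂ}

theorem Core.u_singular (h : Core M u t k) : 2 ∣ orderOf u := by
  by_contra hu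
  have := isPPart_unique Nat.prime_two h.part ((isPPart_one_iff Nat.prime_two).2 hu)
  have h2 := h.invol
  rw [this, orderOf_one] at h2
  omega

/-- The sum of the squares of the degrees in the principal block. -/
noncomputable def degSq (M : Ideal AlgInt) (G : Type u) [Group G] [Fintype G] : ℕ :=
  1 + ∑ χ ∈ rest M G, charDegree (χ : G → ℂ) * charDegree (χ : G → ℂ)

theorem degSq_eq_mul (hM : IsPModular 2 M) (P : Sylow 2 G) (c : IrrCharacter G → ℕ)
    (hc : ∀ χ : IrrCharacter G, ∀ [Fintype (P : Subgroup G)],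
      ∑ x : (P : Subgroup G), (χ : G → ℂ) x = (Nat.card (P : Subgroup G) : ℂ) * c χ) :
    degSq M G =
      Nat.card (P : Subgroup G) * (1 + ∑ χ ∈ rest M G, charDegree (χ : G → ℂ) * c χ) := by
  classical
  haveI : Fintype (P : Subgroup G) := Fintype.ofFinite _
  have hB := isPBlock_principalBlock M G
  have h1 : ∑ x : (P : Subgroup G), blockPair (principalBlock M G) (x : G) 1 =
      blockPair (principalBlock M G) (1 : G) 1 := by
    rw [← Finset.add_sum_erase _ _ (Finset.mem_univ (1 : (P : Subgroup G))), OneMemClass.coe_one,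
      Finset.sum_eq_zero (s := Finset.univ.erase (1 : (P : Subgroup G))), add_zero]
    intro x hx
    obtain ⟨j, hj⟩ := IsPGroup.iff_orderOf.1 P.isPGroup' x
    rw [← blockPair_conj, blockPair_regular_singular hM hB (by simp), map_zero]
    rcases j with _ | j
    · exact absurd (orderOf_eq_one_iff.1 (by simpa using hj)) (Finset.mem_erase.1 hx).1
    · rw [Subgroup.orderOf_coe, hj]; exact dvd_pow_self 2 j.succ_ne_zero
  simp only [blockPair_split, map_one, conj_one, Finset.sum_add_distrib, Finset.sum_const,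
    Finset.card_univ, nsmul_eq_mul, mul_one] at h1
  rw [Finset.sum_comm] at h1
  simp only [← Finset.sum_mul, hc, irr_one_eq_charDegree, Fintype.card_eq_nat_card] at h1
  have h2 : ((degSq M G : ℕ) : ℂ) =
      ((Nat.card (P : Subgroup G) * (1 + ∑ χ ∈ rest M G, charDegree (χ : G → ℂ) * c χ) : ℕ) : ℂ) := by
    unfold degSq
    push_cast
    rw [← h1, mul_add, mul_one, Finset.mul_sum]
    refine congrArg₂ _ rfl (Finset.sum_congr rfl fun χ _ => ?_)
    ring
  exact_mod_cast h2

theorem Core.rest_nonempty (h : Core M u t k) : (rest M G).Nonempty := by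
  by_contra he
  rw [Finset.not_nonempty_iff_eq_empty] at he
  exact h.odd_rho (by rw [he, Finset.sum_empty]; exact dvd_zero 2)

theorem Core.const_eq (h : Core M u t k) (hM : IsPModular 2 M) (P : Sylow 2 G) :
    k = (Nat.card (P : Subgroup G) : ℂ) := by
  classical
  haveI : Fact (Nat.Prime 2) := ⟨Nat.prime_two⟩
  haveI : Fintype (P : Subgroup G) := Fintype.ofFinite _
  set q := Nat.card (P : Subgroup G) with hq
  set ρ := ∑ χ ∈ rest M G, charDegree (χ : G → ℂ) with hρ
  have hB := isPBlock_principalBlock M G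
  have h1 : blockPair (principalBlock M G) 1 u = 0 :=
    blockPair_regular_singular hM hB (by simp) h.u_singular
  rw [blockPair_split] at h1
  have h2 : conj k * (ρ : ℂ) = (degSq M G : ℂ) := by
    unfold degSq
    rw [hρ]
    push_cast
    rw [Finset.mul_sum, ← sub_eq_zero, ← h1]
    rw [show ∀ a b : ℂ, a - (1 + b) = -(1 + (b - a)) from fun a b => by ring, ← Finset.sum_sub_distrib,
      h1, neg_eq_zero, ← h1]
    refine congrArg₂ _ rfl (Finset.sum_congr rfl fun χ hχ => ?_)
    rw [show conj ((χ : G → ℂ) u) = conj ((χ : G → ℂ) 1) - conj k by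
      rw [← h.diff χ hχ, map_sub]; ring, conj_one, irr_one_eq_charDegree χ]
    ring
  have hρ0 : ρ ≠ 0 := fun e => h.odd_rho (by rw [← hρ, e]; exact dvd_zero 2)
  obtain ⟨χ₀, hχ₀⟩ := h.rest_nonempty
  have hint : IsIntegral ℤ k := by
    rw [← h.diff χ₀ hχ₀]
    exact (irr_isIntegral χ₀ 1).sub (irr_isIntegral χ₀ u)
  have hkc : conj k = ((degSq M G : ℚ) / ρ : ℚ) := by
    push_cast
    rw [eq_div_iff (Nat.cast_ne_zero.2 hρ0)]
    exact h2
  have hk : k = ((degSq M G : ℚ) / ρ : ℚ) := by
    simpa using congrArg conj hkc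
  obtain ⟨n, hn⟩ := exists_int_of_isIntegral (hk ▸ hint)
  have hkn : k = (n : ℂ) := by rw [hk, hn, Rat.cast_intCast]
  have h3 : n * (ρ : ℤ) = (degSq M G : ℤ) := by
    rw [hkn, map_intCast] at h2
    exact_mod_cast h2
  have hnpos : 0 < n := by
    have : (0 : ℤ) < (degSq M G : ℤ) := by unfold degSq; positivity
    rw [← h3] at this
    exact pos_of_mul_pos_left this (Int.natCast_nonneg ρ)
  obtain ⟨m, rfl⟩ : ∃ m : ℕ, n = (m : ℤ) := ⟨n.toNat, (Int.toNat_of_nonneg hnpos.le).symm⟩
  have h4 : m * ρ = degSq M G := by exact_mod_cast h3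
  -- the order of the Sylow subgroup divides `m`
  choose c hc using fun χ : IrrCharacter G => exists_sum_subgroup_eq (P : Subgroup G) χ
  have hd := degSq_eq_mul hM P c fun χ => by
    intro i
    convert hc χ
  obtain ⟨e, he⟩ : ∃ e, q = 2 ^ e := by rw [hq]; exact ⟨_, P.card_eq_multiplicity⟩
  have hqm : q ∣ m := by
    refine Nat.Coprime.dvd_of_dvd_mul_right (k := q) (n := ρ) ?_ (h4 ▸ hd ▸ dvd_mul_right _ _)
    rw [he]
    exact ((Nat.Prime.coprime_iff_not_dvd Nat.prime_two).2 h.odd_rho).pow_left e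
  -- `m` divides it
  have hf := (Blocks.exact_divisibility hM (principal G)).1
  set f : G → ℂ := fun x => if 2 ∣ orderOf x then (0 : ℂ) else
    ((2 ^ ((Nat.card G).factorization 2 - (charDegree ((principal G) : G → ℂ)).factorization 2) : ℕ) : ℂ) *
      ((principal G) : G → ℂ) x with hfdef
  have hfv : ∀ x : G, f x = if 2 ∣ orderOf x then 0 else (q : ℂ) := by
    intro x
    simp only [hfdef, hq, P.card_eq_multiplicity]
    split_ifs <;> simp [principal, charDegree]
  choose z hz using fun χ : IrrCharacter G => Char.IsGeneralizedCharacter.exists_classInner_int hf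
    (Char.IsGeneralizedCharacter.of_isCharacter (irr_isCharacter χ))
  have hout : ∀ χ : IrrCharacter G, χ ∉ principalBlock M G → z χ = 0 := by
    intro χ hχ
    have h0 := sum_regular_eq_zero hM (χ := principal G) (ψ := χ) hχ
    have e : classInner f (χ : G → ℂ) = 0 := by
      unfold classInner
      rw [Finset.sum_congr rfl (g := fun x => (q : ℂ) *
        if ¬ 2 ∣ orderOf x then ((principal G : G → ℂ) x * conj ((χ : G → ℂ) x)) else 0)
        (fun x _ => by
          rw [hfv]
          split_ifs <;> simp [principal]), ← Finset.mul_sum, ← Finset.sum_filter, h0, mul_zero,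
        mul_zero]
    exact_mod_cast (hz χ).symm.trans e
  have hfsum : ∀ g, f g = ∑ χ ∈ Finset.univ.filter (· ∈ principalBlock M G), (z χ : ℂ) * (χ : G → ℂ) g := by
    intro g
    rw [Finset.sum_filter]
    conv_lhs => rw [classFunction_eq_sum (Char.IsGeneralizedCharacter.isClassFunction hf)]
    rw [Finset.sum_apply]
    refine Finset.sum_congr rfl fun χ _ => ?_
    rw [Pi.smul_apply, smul_eq_mul, hz]
    split_ifs with hχ
    · rfl
    · rw [hout χ hχ, Int.cast_zero, zero_mul]
  have hq1 : (q : ℂ) = k * ((∑ χ ∈ rest M G, z χ : ℤ) : ℂ) := by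
    have e1 := hfsum 1
    have e2 := hfsum u
    rw [hfv, if_neg (by simp)] at e1
    rw [hfv, if_pos h.u_singular] at e2
    have e3 : (q : ℂ) = ∑ χ ∈ Finset.univ.filter (· ∈ principalBlock M G),
        (z χ : ℂ) * ((χ : G → ℂ) 1 - (χ : G → ℂ) u) := by
      simp only [mul_sub, Finset.sum_sub_distrib, ← e1, ← e2, sub_zero]
    rw [e3, Int.cast_sum, Finset.mul_sum, ← Finset.add_sum_erase _ _ (Finset.mem_filter.2
      ⟨Finset.mem_univ (principal G), principal_mem_principalBlock (M := M) (G := G)⟩)]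
    simp only [principal, sub_self, mul_zero, zero_add]
    refine Finset.sum_congr ?_ fun χ hχ => ?_
    · ext χ
      simp only [rest, Finset.mem_erase, Finset.mem_filter, Finset.mem_univ, true_and]
      exact and_comm
    · rw [h.diff χ hχ]; ring
  rw [hkn, Int.cast_natCast] at hq1
  have hq2 : (q : ℤ) = (m : ℤ) * ∑ χ ∈ rest M G, z χ := by exact_mod_cast hq1
  have hmq : m ∣ q := Int.natCast_dvd_natCast.1 ⟨_, hq2⟩
  rw [hkn, Nat.dvd_antisymm hmq hqm, Int.cast_natCast]

end Cfsg.Agent.ConstDiff
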