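import Cfsg.Agent.Lib.ConstDiff.Chars
import Cfsg.Agent.Lib.ConstDiff.PSL
import Cfsg.Agent.Lib.Blocks.KleinPrincipal
import Cfsg.Agent.Lib.DoublyPrim.Reduce
import Cfsg.Agent.Lib.JankoRee.Setup

/-!
The case of solvable involution centralisers.
-/

set_option autoImplicit false
set_option linter.unusedSectionVars false
set_option linter.style.haveILetI false

namespace Cfsg.Agent.ConstDiff

open Cfsg Cfsg.Agent.Char Cfsg.Agent.Blocks

universe u

variable {G : Type u} [Group G] [Fintype G] {M : Ideal AlgInt} [M.IsPrime]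
variable {u t : G} {k : ℂ}

theorem odd_orderOf_two_pow_eq_one {x : G} {j : ℕ} (hx : x ^ 2 ^ j = 1) (ho : Odd (orderOf x)) : x = 1 :=
  orderOf_eq_one_iff.1 (Nat.eq_one_of_dvd_coprimes ((Nat.coprime_two_left.2 ho).pow_left j)
    (orderOf_dvd_of_pow_eq_one hx) dvd_rfl)

theorem Core.not_solvable (h : Core M u t k) (hM : IsPModular 2 M) (P : Sylow 2 G)
    (hq : 4 ≤ Nat.card (P : Subgroup G)) : ¬ Group.IsSolvable G := by
  classical
  intro hs
  haveI : Fact (Nat.Prime 2) := ⟨Nat.prime_two⟩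
  haveI : Nontrivial G := ⟨⟨u, 1, h.u_ne⟩⟩
  obtain ⟨A, hAn, hA1, hAc⟩ := DoublyPrim.abelian_normal_of_solvable (X := G)
  let K : Subgroup G :=
    { carrier := {x | x ∈ A ∧ ¬ 2 ∣ orderOf x}
      one_mem' := ⟨A.one_mem, by simp⟩
      mul_mem' := fun {x y} hx hy => ⟨mul_mem hx.1 hy.1, fun hd => by
        have h1 := hd.trans ((Commute.orderOf_mul_dvd_lcm (hAc x hx.1 y hy.1)).trans
          (Nat.lcm_dvd_mul _ _))
        rcases Nat.prime_two.dvd_mul.1 h1 with h2 | h2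
        · exact hx.2 h2
        · exact hy.2 h2⟩
      inv_mem' := fun {x} hx => ⟨inv_mem hx.1, by rw [orderOf_inv]; exact hx.2⟩ }
  have hKn : K.Normal := ⟨fun x hx g => ⟨hAn.conj_mem x hx.1 g, by
    rw [← MulAut.conj_apply, MulEquiv.orderOf_eq]; exact hx.2⟩⟩
  have hK2 : ¬ 2 ∣ Nat.card K := fun hd => by
    obtain ⟨⟨v, hv⟩, hv2⟩ := exists_prime_orderOf_dvd_card' (G := K) 2 hd
    rw [Subgroup.orderOf_mk] at hv2
    exact hv.2 (by rw [hv2])
  have hle : K ≤ Cfsg.oddCore G := Cfsg.Agent.PBasic.le_pPrimeCore hKn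
    ((Nat.Prime.coprime_iff_not_dvd Nat.prime_two).2 hK2).symm
  rw [h.core] at hle
  have hA2 : IsPGroup 2 A := by
    rintro ⟨x, hx⟩
    obtain ⟨j, m, hm, e⟩ := Nat.exists_eq_two_pow_mul_odd (n := orderOf x) (orderOf_pos x).ne'
    refine ⟨j, Subtype.ext ?_⟩
    refine Subgroup.mem_bot.1 (hle ⟨pow_mem hx _, ?_⟩)
    show ¬ 2 ∣ orderOf (x ^ 2 ^ j)
    rw [orderOf_pow, e, Nat.gcd_eq_right (dvd_mul_right _ _), Nat.mul_div_cancel_left _ (by positivity)]
    exact fun hd => Nat.not_even_iff_odd.2 hm (even_iff_two_dvd.2 hd)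
  obtain ⟨a, ha, ha1⟩ := (Subgroup.bot_or_exists_ne_one A).resolve_left hA1
  obtain ⟨ja, hja⟩ := IsPGroup.iff_orderOf.1 hA2 ⟨a, ha⟩
  rw [Subgroup.orderOf_mk] at hja
  have hta : IsConj t a := h.conj_invol a (orderOf_eq_prime (by rw [pow_two]; exact h.sq a ⟨ja, hja⟩) ha1)
  have hPA : (P : Subgroup G) ≤ A := by
    intro v hv
    by_cases hv1 : v = 1
    · rw [hv1]; exact A.one_mem
    · obtain ⟨c, rfl⟩ := isConj_iff.1 (hta.symm.trans (h.conj_invol v (h.orderOf_mem P hv hv1)))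
      exact hAn.conj_mem a ha c
  have hAP : A = (P : Subgroup G) := P.is_maximal' hA2 hPA
  haveI : (P : Subgroup G).Normal := hAP ▸ hAn
  have htop := h.eq_top hM P hq (P : Subgroup G)
    (Nat.not_even_iff_odd.1 fun he => P.not_dvd_index he.two_dvd) (h.cent_sylow hM P hq)
  have hone : ∀ v : G, v ≠ 1 → v = t := by
    intro v hv
    have hvP : v ∈ (P : Subgroup G) := htop ▸ Subgroup.mem_top v
    obtain ⟨c, hc⟩ := isConj_iff.1 (h.conj_invol v (h.orderOf_mem P hvP hv))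
    have := h.sylow_comm P c (htop ▸ Subgroup.mem_top c) t (htop ▸ Subgroup.mem_top t)
    rw [← hc, this, mul_inv_cancel_right]
  have hcard : Nat.card G ≤ 2 := by
    rw [Nat.card_eq_fintype_card]
    refine le_trans (Finset.card_le_card (fun v _ => ?_) : _ ≤ ({1, t} : Finset G).card) Finset.card_le_two
    by_cases hv : v = 1
    · simp [hv]
    · simp [hone v hv]
  have := Subgroup.card_le_card_group (P : Subgroup G)
  omega

/-- The degrees when the Sylow subgroup has order four. -/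
theorem Core.klein_degrees (h : Core M u t k) (hM : IsPModular 2 M) (P : Sylow 2 G)
    (h4 : Nat.card (P : Subgroup G) = 4) (hS : KleinBlock.Setup G) {r : ℕ}
    (hr : Nat.card ↥(Subgroup.centralizer ({t} : Set G)) = r * 4) :
    (Nat.card G : ℚ) = 60 * (r : ℚ) ^ 3 := by
  classical
  obtain ⟨χ₁, χ₂, χ₃, hd, hB, ε₁, ε₂, ε₃, hε, hv⟩ := KleinBlock.exists_three hM hS
  have hval := hv t h.invol
  have hcl : ∀ (χ : IrrCharacter G) (ε : ℤ), (ε = 1 ∨ ε = -1) → (χ : G → ℂ) ≠ (fun _ => 1) →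
      χ ∈ principalBlock M G → (χ : G → ℂ) t = ε →
      (ε = -1 ∧ charDegree (χ : G → ℂ) = 3) ∨ (ε = 1 ∧ charDegree (χ : G → ℂ) = 5) := by
    intro χ ε hε hne hmem he
    obtain ⟨c, hc, hct, -⟩ := (h.shape_chars hM P (by omega)).1 χ (mem_rest.2 ⟨hmem, hne⟩)
    rw [h4] at hc
    have : (ε : ℂ) = (((c : ℤ) - 1 : ℤ) : ℂ) := by rw [← he, hct]; push_cast; ring
    have e : ε = (c : ℤ) - 1 := by exact_mod_cast this
    rcases hε with rfl | rfl
    · exact Or.inr ⟨rfl, by omega⟩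
    · exact Or.inl ⟨rfl, by omega⟩
  have m1 : χ₁ ∈ principalBlock M G := by rw [hB]; exact Or.inr (Or.inl rfl)
  have m2 : χ₂ ∈ principalBlock M G := by rw [hB]; exact Or.inr (Or.inr (Or.inl rfl))
  have m3 : χ₃ ∈ principalBlock M G := by rw [hB]; exact Or.inr (Or.inr (Or.inr rfl))
  have hrel := KleinBlock.degree_relation hM hS χ₁ χ₂ χ₃ ε₁ ε₂ ε₃ h.invol hB hd hval
  have hof := KleinBlock.order_formula hM hS χ₁ χ₂ χ₃ ε₁ ε₂ ε₃ h.invol hB hd hval hε P (r := r) (by
    rw [show Subgroup.centralizer ((P : Subgroup G) : Set G) = (P : Subgroup G) from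
      le_antisymm (h.cent_sylow hM P (by omega)) (fun a ha => Subgroup.mem_centralizer_iff.2
        fun b hb => h.sylow_comm P b hb a ha), h4]
    exact hr)
  rw [show Subgroup.centralizer ((P : Subgroup G) : Set G) = (P : Subgroup G) from
      le_antisymm (h.cent_sylow hM P (by omega)) (fun a ha => Subgroup.mem_centralizer_iff.2
        fun b hb => h.sylow_comm P b hb a ha), h4] at hof
  rcases hcl χ₁ ε₁ hε.1 hd.1 m1 hval.1 with ⟨rfl, a1⟩ | ⟨rfl, a1⟩ <;>
  rcases hcl χ₂ ε₂ hε.2.1 hd.2.1 m2 hval.2.1 with ⟨rfl, a2⟩ | ⟨rfl, a2⟩ <;>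
  rcases hcl χ₃ ε₃ hε.2.2 hd.2.2.1 m3 hval.2.2 with ⟨rfl, a3⟩ | ⟨rfl, a3⟩ <;>
    rw [a1, a2, a3] at hrel hof <;>
    first
      | (norm_num at hrel; done)
      | (norm_num at hrel hof ⊢; linarith)

theorem ldata_arith {Q : ℤ} {h : ℕ} (h11 : 11 ≤ Q.natAbs)
    (hc : 2 * (60 * h ^ 3) = Q.natAbs * (Q.natAbs ^ 2 - 1)) (h4 : 4 * h = (Q + 1).natAbs) : False := by
  have h1 : 1 ≤ Q.natAbs ^ 2 := Nat.one_le_pow _ _ (by omega)
  zify [h1] at hc
  have ha : (11 : ℤ) ≤ (Q.natAbs : ℤ) := by exact_mod_cast h11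
  have hh : (3 : ℤ) ≤ (h : ℤ) := by omega
  rcases Int.natAbs_eq Q with e | e
  · have hQ : (Q.natAbs : ℤ) = 4 * h - 1 := by omega
    rw [← Int.natCast_natAbs, hQ] at hc
    nlinarith
  · have hQ : (Q.natAbs : ℤ) = 4 * h + 1 := by omega
    rw [← Int.natCast_natAbs, hQ] at hc
    nlinarith

/-- No group PSL₂ of odd characteristic but the one of order sixty. -/
theorem Core.card_field_five (h : Core M u t k) (hM : IsPModular 2 M) (P : Sylow 2 G)
    (hq : 4 ≤ Nat.card (P : Subgroup G)) {F : Type} [Field F] [Fintype F]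
    (h8 : Fintype.card F % 8 = 3 ∨ Fintype.card F % 8 = 5) (h5 : 5 ≤ Fintype.card F)
    (e : G ≃* Matrix.ProjectiveSpecialLinearGroup (Fin 2) F) : Fintype.card F = 5 := by
  classical
  haveI : Fact (Nat.Prime 2) := ⟨Nat.prime_two⟩
  by_contra hne
  have h11 : 11 ≤ Fintype.card F := by omega
  have hcomm : IsMulCommutative (P : Subgroup G) :=
    ⟨⟨fun a b => Subtype.ext (h.sylow_comm P a a.2 b b.2)⟩⟩
  have h4 : Nat.card (P : Subgroup G) = 4 :=
    (JankoRee.psl2_sylow_of_equiv (Nat.odd_iff.2 (by omega)) (by omega) e P hcomm).1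
  have hS : KleinBlock.Setup G := KleinBlock.Setup.of_sylow P h4 (fun x => Subtype.ext (h.sylow_sq P x.2))
    fun a b ha hb => (h.conj_invol a ha).symm.trans (h.conj_invol b hb)
  obtain ⟨D⟩ := JanThom.exists_lData h8 h11
  have het : IsConj D.s (e t) := D.invol (e t)
    (by rw [← map_mul, ← pow_two, orderOf_dvd_iff_pow_eq_one.1 h.invol.dvd, map_one]) fun h1 => by
      have := h.invol
      rw [← MulEquiv.orderOf_eq e, h1, orderOf_one] at this
      omega
  have hC : Nat.card ↥(Subgroup.centralizer ({t} : Set G)) = D.h * 4 := by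
    rw [mul_comm, ← D.card_Cs]
    obtain ⟨c, hc⟩ := isConj_iff.1 het
    refine Nat.card_congr (((MulAut.conj c).trans e.symm).toEquiv.subtypeEquiv fun x => ?_).symm
    rw [Subgroup.mem_centralizer_singleton_iff, Subgroup.mem_centralizer_singleton_iff]
    show x * D.s = D.s * x ↔ e.symm (c * x * c⁻¹) * t = t * e.symm (c * x * c⁻¹)
    rw [show t = e.symm (c * D.s * c⁻¹) by rw [hc, e.symm_apply_apply], ← map_mul, ← map_mul,
      e.symm.injective.eq_iff,
      show c * x * c⁻¹ * (c * D.s * c⁻¹) = c * (x * D.s) * c⁻¹ by group,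
      show c * D.s * c⁻¹ * (c * x * c⁻¹) = c * (D.s * x) * c⁻¹ by group]
    exact ⟨fun hh => by rw [hh], fun hh => mul_left_cancel (mul_right_cancel hh)⟩
  have hord := h.klein_degrees hM P h4 hS hC
  have hord' : Nat.card G = 60 * D.h ^ 3 := by exact_mod_cast hord
  refine ldata_arith D.Q_large ?_ D.h_eq
  rw [← D.card_L, ← Nat.card_congr e.toEquiv, hord']

/-- The conclusion when all involution centralisers are solvable. -/
theorem Core.soluble_case (h : Core M u t k) (hM : IsPModular 2 M) (P : Sylow 2 G)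
    (hq : 4 ≤ Nat.card (P : Subgroup G))
    (hC : ∀ s : G, orderOf s = 2 → Group.IsSolvable ↥(Subgroup.centralizer ({s} : Set G))) :
    ∃ (F : Type) (_ : Field F) (_ : Fintype F) (n : ℕ), 2 ≤ n ∧ Fintype.card F = 2 ^ n ∧
      Nonempty (G ≃* Matrix.ProjectiveSpecialLinearGroup (Fin 2) F) ∧ u ^ 2 = 1 := by
  classical
  haveI : Fact (Nat.Prime 2) := ⟨Nat.prime_two⟩
  have hcomm : IsMulCommutative (P : Subgroup G) :=
    ⟨⟨fun a b => Subtype.ext (h.sylow_comm P a a.2 b b.2)⟩⟩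
  obtain ⟨F, iF, iFF, hgood, N, hN, ⟨e⟩, -⟩ :=
    (AbelInv.reduced P hcomm hC h.core).resolve_left (h.not_solvable hM P hq)
  haveI := hN
  have hF4 : 4 ≤ Fintype.card F := by
    rcases hgood with ⟨-, h5⟩ | ⟨n, hn, hc⟩
    · omega
    · rw [hc]; exact (by norm_num : 4 = 2 ^ 2) ▸ Nat.pow_le_pow_right (by norm_num) hn
  -- there is an involution in the normal subgroup
  obtain ⟨a, haN, ha⟩ : ∃ a ∈ N, orderOf a = 2 := by
    haveI := Matrix.ProjectiveSpecialLinearGroup.rank_two_simple (F := F)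
      (by rw [Nat.card_eq_fintype_card]; omega)
    have hev : 2 ∣ Nat.card (Matrix.ProjectiveSpecialLinearGroup (Fin 2) F) := by
      have hc := ProjLine.two_mul_card_psl (F := F)
      rw [Nat.card_eq_fintype_card (α := F)] at hc
      replace hc : Nat.gcd 2 (Fintype.card F - 1) * Nat.card (Matrix.ProjectiveSpecialLinearGroup (Fin 2) F) =
          Fintype.card F * (Fintype.card F - 1) * (Fintype.card F + 1) :=
        Nat.eq_of_mul_eq_mul_right (show 0 < Fintype.card F - 1 by omega) (hc.trans (by ring))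
      generalize Nat.card (Matrix.ProjectiveSpecialLinearGroup (Fin 2) F) = N at hc ⊢
      rcases Nat.even_or_odd (Fintype.card F) with ⟨m, hm⟩ | ⟨m, hm⟩
      · rw [show Nat.gcd 2 (Fintype.card F - 1) = 1 from
          Nat.coprime_two_left.2 ⟨m - 1, by omega⟩, one_mul] at hc
        rw [hc]
        exact dvd_mul_of_dvd_left (dvd_mul_of_dvd_left ⟨m, by omega⟩ _) _
      · rw [show Nat.gcd 2 (Fintype.card F - 1) = 2 from Nat.gcd_eq_left ⟨m, by omega⟩, hm,
          show 2 * m + 1 - 1 = 2 * m by omega] at hc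
        exact ⟨(2 * m + 1) * (m * (m + 1)) / 1, by rw [Nat.div_one]; nlinarith⟩
    rw [← Nat.card_congr e.toEquiv] at hev
    obtain ⟨⟨a, ha⟩, ha2⟩ := exists_prime_orderOf_dvd_card' (G := N) 2 hev
    exact ⟨a, ha, by rwa [Subgroup.orderOf_mk] at ha2⟩
  have hPN : (P : Subgroup G) ≤ N := by
    intro v hv
    by_cases hv1 : v = 1
    · rw [hv1]; exact N.one_mem
    · obtain ⟨c, rfl⟩ := isConj_iff.1 ((h.conj_invol a ha).symm.trans (h.conj_invol v (h.orderOf_mem P hv hv1)))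
      exact hN.conj_mem a haN c
  have hodd : Odd N.index := Nat.not_even_iff_odd.1 fun he =>
    P.not_dvd_index (he.two_dvd.trans (Subgroup.index_dvd_of_le hPN))
  have htop := h.eq_top hM P hq N hodd ((h.cent_sylow hM P hq).trans hPN)
  let eG : G ≃* Matrix.ProjectiveSpecialLinearGroup (Fin 2) F :=
    (Subgroup.topEquiv.symm.trans (MulEquiv.subgroupCongr htop.symm)).trans e
  -- characteristic two
  obtain ⟨K, iK, iKF, hK2, hK4, ⟨eK⟩⟩ : ∃ (K : Type) (_ : Field K) (_ : Fintype K), CharP K 2 ∧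
      4 ≤ Fintype.card K ∧ Nonempty (G ≃* Matrix.ProjectiveSpecialLinearGroup (Fin 2) K) := by
    rcases hgood with ⟨h8, h5⟩ | ⟨n, hn, hc⟩
    · obtain ⟨K, iK, iKF, h2, h4, ⟨e'⟩⟩ := ThreeOrd.psl_five_equiv (F := F) (h.card_field_five hM P hq h8 h5 eG)
      exact ⟨K, iK, iKF, h2, h4, ⟨eG.trans e'⟩⟩
    · exact ⟨F, iF, iFF, charTwo_of_card hc, hF4, ⟨eG⟩⟩
  haveI := hK2
  obtain ⟨n, -, hn⟩ := FiniteField.card K 2
  refine ⟨K, iK, iKF, n, ?_, hn, ⟨eK⟩, ?_⟩
  · by_contra hlt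
    have : (n : ℕ) ≤ 1 := by omega
    have := Nat.pow_le_pow_right (show 1 ≤ 2 by norm_num) this
    omega
  · obtain ⟨x, hx, hc, -, hxo⟩ := h.part
    have hx1 : x = 1 := eK.injective (by
      rw [map_one]
      exact psl_two_odd_commute (t := eK t) (by rw [MulEquiv.orderOf_eq, h.invol])
        (hc.map eK.toMonoidHom) (by rw [MulEquiv.orderOf_eq]; exact hxo))
    rw [← hx, hx1, mul_one]
    exact orderOf_dvd_iff_pow_eq_one.1 h.invol.dvd

end Cfsg.Agent.ConstDiff
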